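import Groth.Agent.GITLib.TorusApprox.Main
import Mathlib.Algebra.MonoidAlgebra.NoZeroDivisors
import Mathlib.RingTheory.Flat.Basic

/-!
# Points of an affine group scheme as algebra maps; groups split by a finite étale cover
-/

set_option autoImplicit false
set_option linter.style.haveILetI false
set_option backward.isDefEq.respectTransparency false
set_option synthInstance.maxHeartbeats 400000

universe u

open CategoryTheory MonoidalCategory CartesianMonoidalCategory MonObj GrpObj AlgebraicGeometry Limits
open scoped TensorProduct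

noncomputable section

namespace Groth.Agent.GITLib.TorusApprox

variable {A : Type u} [CommRing A] (T : Over (Spec (CommRingCat.of A))) [IsAffine T.left]

/-- The algebra structure on the functions. -/
@[instance_reducible]
def funAlg : Algebra A Γ(T.left, ⊤) :=
  (Spec.preimage (R := CommRingCat.of A) (S := Γ(T.left, ⊤)) (T.left.isoSpec.inv ≫ T.hom)).hom.toAlgebra

section

variable {H : Type u} [CommRing H] [Algebra A H] (idp : sp A H ⟶ T) [GrpObj T]
  {R R' : Type u} [CommRing R] [Algebra A R] [CommRing R'] [Algebra A R']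

/-- Points with the same functions are equal. -/
theorem coord_injective {x y : sp A R ⟶ T} (h : ∀ a, coord T x a = coord T y a) : x = y := by
  apply Over.OverMorphism.ext
  rw [← cancel_mono T.left.isoSpec.hom, ← Spec.map_preimage (x.left ≫ T.left.isoSpec.hom),
    ← Spec.map_preimage (y.left ≫ T.left.isoSpec.hom)]
  congr 1
  exact CommRingCat.hom_ext (RingHom.ext h)

end

/-- An affine scheme over an affine base with all its algebra maps. -/
theorem exists_universal [GrpObj T] :
    ∃ (H : Type u) (_ : CommRing H) (_ : Algebra A H) (p : sp A H ⟶ T) (ε : H ≃+* Γ(T.left, ⊤)),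
      (∀ a, coord T p a = ε.symm a) ∧
      ∀ {R : Type u} [CommRing R] [Algebra A R] (x : sp A R ⟶ T), ∃! f : H →ₐ[A] R, mapPt T f p = x := by
  letI := funAlg T
  let p : sp A Γ(T.left, ⊤) ⟶ T := Over.homMk T.left.isoSpec.inv (Spec.map_preimage (T.left.isoSpec.inv ≫ T.hom)).symm
  have hp : ∀ a, coord T p a = a := fun a => by
    show (Spec.preimage (T.left.isoSpec.inv ≫ T.left.isoSpec.hom)).hom a = a
    rw [Iso.inv_hom_id]
    exact DFunLike.congr_fun (congrArg CommRingCat.Hom.hom (Spec.map_injective ((Spec.map_preimage _).trans (Spec.map_id _).symm))) a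
  refine ⟨Γ(T.left, ⊤), inferInstance, funAlg T, p, RingEquiv.refl _, hp, fun {R} _ _ x => ?_⟩
  have hw : ∀ a : A, coord T x (algebraMap A Γ(T.left, ⊤) a) = algebraMap A R a := by
    have h : Spec.preimage (T.left.isoSpec.inv ≫ T.hom) ≫ Spec.preimage (x.left ≫ T.left.isoSpec.hom) =
        CommRingCat.ofHom (algebraMap A R) := by
      apply Spec.map_injective
      rw [Spec.map_comp, Spec.map_preimage, Spec.map_preimage, Category.assoc, Iso.hom_inv_id_assoc]
      exact Over.w x
    exact fun a => DFunLike.congr_fun (congrArg CommRingCat.Hom.hom h) a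
  refine ⟨{ coord T x with commutes' := hw }, coord_injective T fun a => ?_, fun f hf => AlgHom.ext fun a => ?_⟩
  · rw [coord_mapPt, hp]
    rfl
  · show f a = coord T x a
    rw [← hf, coord_mapPt, hp]

section Split

variable {C : Type u} [CommRing C] [Algebra A C] {M : Type} [AddCommGroup M] [GrpObj T]
variable (e : Grp.mk (Red.bc (Spec.map (CommRingCat.ofHom (algebraMap A C))) T) ≅
  Grp.mk (Red.DS (Spec (CommRingCat.of C)) M))

include e in
/-- Over a splitting algebra the functions embed into the group algebra. -/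
theorem exists_injective_monoidAlgebra {H : Type u} [CommRing H] [Algebra A H] (p : sp A H ⟶ T)
    (huniv : ∀ {R : Type u} [CommRing R] [Algebra A R] (x : sp A R ⟶ T), ∃! f : H →ₐ[A] R, mapPt T f p = x) :
    ∃ P : C ⊗[A] H →ₐ[C] MonoidAlgebra C (Multiplicative M), Function.Injective P := by
  let N := MonoidAlgebra C (Multiplicative M)
  let x : sp A N ⟶ T := chPt T e (MonoidAlgebra.of C (Multiplicative M))
  obtain ⟨f, hf, -⟩ := huniv x
  let P : C ⊗[A] H →ₐ[C] N := Algebra.TensorProduct.lift (Algebra.ofId C N) f fun _ _ => Commute.all _ _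
  let iH : H →ₐ[A] C ⊗[A] H := Algebra.TensorProduct.includeRight
  obtain ⟨t, ht⟩ := chPt_surjective T e (R := C ⊗[A] H) (mapPt T iH p)
  let Q : N →ₐ[C] C ⊗[A] H := MonoidAlgebra.lift C (C ⊗[A] H) (Multiplicative M) t
  refine ⟨P, Function.LeftInverse.injective (g := Q) ?_⟩
  have hQf : (Q.restrictScalars A).comp f = iH := by
    apply (huniv (mapPt T iH p)).unique _ rfl
    rw [← mapPt_mapPt, hf, ← chPt_comp, ← ht]
    congr 1
    exact MonoidHom.ext fun m => MonoidAlgebra.lift_of t m
  have hQP : Q.comp P = AlgHom.id C (C ⊗[A] H) := by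
    refine Algebra.TensorProduct.ext (Subsingleton.elim _ _) (AlgHom.ext fun h => ?_)
    show Q (P ((1 : C) ⊗ₜ[A] h)) = (1 : C) ⊗ₜ[A] h
    rw [Algebra.TensorProduct.lift_tmul, map_one, _root_.one_mul]
    exact DFunLike.congr_fun hQf h
  exact fun z => DFunLike.congr_fun hQP z

end Split

end Groth.Agent.GITLib.TorusApprox

end
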