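import Groth.Agent.GITLib.TorusApprox.Points
import Groth.Agent.FiltRees.UFD
import Mathlib.Algebra.Polynomial.Laurent

/-!
# Cocharacters of a group split over an algebra, as universal points
-/

set_option autoImplicit false
set_option linter.style.haveILetI false
set_option backward.isDefEq.respectTransparency false

universe u

open CategoryTheory MonoidalCategory CartesianMonoidalCategory MonObj GrpObj AlgebraicGeometry LaurentPolynomial

noncomputable section

namespace Groth.Agent.GITLib.TorusApprox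

variable {A C : Type u} [CommRing A] [CommRing C] [Algebra A C]
variable {R R' : Type u} [CommRing R] [Algebra A R] [CommRing R'] [Algebra A R']

/-- The twisted evaluation of Laurent polynomials. -/
def ev (g : C →ₐ[A] R) (u : Rˣ) : C[T;T⁻¹] →ₐ[A] R :=
  { LaurentPolynomial.eval₂ g.toRingHom u with
    commutes' := fun a => by
      show LaurentPolynomial.eval₂ g.toRingHom u (algebraMap A C[T;T⁻¹] a) = _
      rw [show algebraMap A C[T;T⁻¹] a = LaurentPolynomial.C (algebraMap A C a) from rfl,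
        LaurentPolynomial.eval₂_C]
      exact g.commutes a }

theorem ev_C (g : C →ₐ[A] R) (u : Rˣ) (c : C) : ev g u (LaurentPolynomial.C c) = g c :=
  LaurentPolynomial.eval₂_C _ _ c

theorem ev_T (g : C →ₐ[A] R) (u : Rˣ) (n : ℤ) : ev g u (T n) = ((u ^ n : Rˣ) : R) :=
  LaurentPolynomial.eval₂_T _ _ n

theorem comp_ev (h : R →ₐ[A] R') (g : C →ₐ[A] R) (u : Rˣ) :
    h.comp (ev g u) = ev (h.comp g) (Units.map (h : R →* R') u) := by
  refine AlgHom.ext fun p => ?_
  induction p using LaurentPolynomial.induction_on' with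
  | add p q hp hq => simp only [map_add, hp, hq]
  | C_mul_T n a =>
    simp only [map_mul, AlgHom.comp_apply, ev_C, ev_T]
    rw [← map_zpow]
    rfl

variable (T' : Over (Spec (CommRingCat.of A))) [GrpObj T'] {M : Type} [AddCommGroup M]
variable (e : Grp.mk (Red.bc (Spec.map (CommRingCat.ofHom (algebraMap A C))) T') ≅
  Grp.mk (Red.DS (Spec (CommRingCat.of C)) M))

/-- The universal point of a cocharacter. -/
def coPt (φ : M →+ ℤ) : sp A C[T;T⁻¹] ⟶ T' :=
  chPt T' e
    { toFun := fun m => T (φ m.toAdd)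
      map_one' := by simp
      map_mul' := fun a b => by rw [toAdd_mul, map_add, T_add] }

/-- The point of a cocharacter at `u`, twisted by `g`. -/
def lam (φ : M →+ ℤ) (g : C →ₐ[A] R) (u : Rˣ) : sp A R ⟶ T' := mapPt T' (ev g u) (coPt T' e φ)

theorem mapPt_lam (φ : M →+ ℤ) (h : R →ₐ[A] R') (g : C →ₐ[A] R) (u : Rˣ) :
    mapPt T' h (lam T' e φ g u) = lam T' e φ (h.comp g) (Units.map (h : R →* R') u) := by
  rw [lam, lam, mapPt_mapPt, comp_ev]

theorem lam_algebra [Algebra C R] [IsScalarTower A C R] (φ : M →+ ℤ) (u : Rˣ) :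
    lam T' e φ (IsScalarTower.toAlgHom A C R) u = chPt T' e
      { toFun := fun m => ((u ^ φ m.toAdd : Rˣ) : R)
        map_one' := by simp
        map_mul' := fun a b => by rw [toAdd_mul, map_add, zpow_add, Units.val_mul] } := by
  let f : C[T;T⁻¹] →ₐ[C] R :=
    { LaurentPolynomial.eval₂ (algebraMap C R) u with
      commutes' := fun c => LaurentPolynomial.eval₂_C _ _ c }
  have hf : f.restrictScalars A = ev (IsScalarTower.toAlgHom A C R) u := rfl
  rw [lam, ← hf, coPt, ← chPt_comp]
  congr 1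
  refine MonoidHom.ext fun m => ?_
  exact LaurentPolynomial.eval₂_T _ _ _

theorem lam_one (φ : M →+ ℤ) (g : C →ₐ[A] R) : lam T' e φ g 1 = 1 := by
  have h0 : lam T' e φ (AlgHom.id A C) (1 : Cˣ) = 1 := by
    rw [show AlgHom.id A C = IsScalarTower.toAlgHom A C C from rfl, lam_algebra, ← map_one (chPt T' e)]
    congr 1
    exact MonoidHom.ext fun m => by simp
  have h := congrArg (mapPt T' g) h0
  rw [mapPt_lam, map_one, map_one] at h
  rwa [AlgHom.comp_id] at h

/-- A conjugate of a cocharacter is a cocharacter. -/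
theorem exists_conj [IsDomain C] [IsNoetherianRing C] (φ : M →+ ℤ) (σ : C →ₐ[A] C) :
    ∃ φ' : M →+ ℤ, ∀ {R : Type u} [CommRing R] [Algebra A R] (g : C →ₐ[A] R) (u : Rˣ),
      lam T' e φ (g.comp σ) u = lam T' e φ' g u := by
  let T₁ : (C[T;T⁻¹])ˣ := (LaurentPolynomial.isUnit_T (1 : ℤ)).unit
  let σR : C →ₐ[A] C[T;T⁻¹] := (IsScalarTower.toAlgHom A C C[T;T⁻¹]).comp σ
  obtain ⟨t, ht⟩ := chPt_surjective T' e (R := C[T;T⁻¹]) (lam T' e φ σR T₁)
  have hunit : ∀ m : M, ∃ (i : ℤ), t (Multiplicative.ofAdd m) = T i := by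
    intro m
    have hu : IsUnit (t (Multiplicative.ofAdd m)) :=
      IsUnit.of_mul_eq_one (t (Multiplicative.ofAdd (-m))) (by rw [← map_mul, ← ofAdd_add, add_neg_cancel, ofAdd_zero, map_one])
    obtain ⟨i, c, -, hc⟩ := FiltRees.exists_monomial_of_isUnit hu
    refine ⟨i, ?_⟩
    let f : C[T;T⁻¹] →ₐ[C] C :=
      { LaurentPolynomial.eval₂ (RingHom.id C) 1 with
        commutes' := fun c => LaurentPolynomial.eval₂_C _ _ c }
    have hf : f.restrictScalars A = ev (AlgHom.id A C) 1 := rfl
    have h1 := chPt_comp T' e f t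
    have hTone : Units.map (ev (AlgHom.id A C) 1 : C[T;T⁻¹] →* C) T₁ = 1 :=
      Units.ext (by simp [T₁, ev_T])
    rw [ht, hf, mapPt_lam, hTone, lam_one, ← map_one (chPt T' e)] at h1
    have h2 := DFunLike.congr_fun (chPt_injective T' e h1) (Multiplicative.ofAdd m)
    change f (t (Multiplicative.ofAdd m)) = 1 at h2
    rw [hc, map_mul] at h2
    change LaurentPolynomial.eval₂ (RingHom.id C) 1 (LaurentPolynomial.C c) *
      LaurentPolynomial.eval₂ (RingHom.id C) 1 (T i) = 1 at h2
    rw [LaurentPolynomial.eval₂_C, LaurentPolynomial.eval₂_T, one_zpow, Units.val_one, _root_.mul_one] at h2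
    rw [hc, show c = 1 from h2, map_one, _root_.one_mul]
  choose i hi using hunit
  have hiadd : ∀ m n, i (m + n) = i m + i n := by
    intro m n
    have h : (T (i (m + n)) : C[T;T⁻¹]) = T (i m + i n) := by
      rw [T_add, ← hi, ← hi, ← hi, ← map_mul, ofAdd_add]
    exact AddMonoidAlgebra.single_left_injective one_ne_zero h
  let φ' : M →+ ℤ := AddMonoidHom.mk' i hiadd
  refine ⟨φ', fun {R} _ _ g u => ?_⟩
  have hco : coPt T' e φ' = lam T' e φ σR T₁ := by
    rw [← ht, coPt]
    congr 1
    exact MonoidHom.ext fun m => (hi m.toAdd).symm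
  show _ = mapPt T' (ev g u) (coPt T' e φ')
  rw [hco, mapPt_lam]
  congr 1
  · exact AlgHom.ext fun c => (ev_C g u (σ c)).symm
  · refine Units.ext ?_
    show (u : R) = ev g u (T₁ : C[T;T⁻¹])
    rw [show (T₁ : C[T;T⁻¹]) = T 1 from IsUnit.unit_spec _, ev_T, zpow_one]

end Groth.Agent.GITLib.TorusApprox

end
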