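import Groth.Prelude.Def_TwC
import Mathlib.RingTheory.Unramified.Field
import Mathlib.RingTheory.Etale.Basic
import Mathlib.FieldTheory.IsSepClosed
import Mathlib.FieldTheory.Galois.Infinite
import Mathlib.AlgebraicGeometry.Morphisms.Etale
import Mathlib.AlgebraicGeometry.Morphisms.Finite

/-!
# Galois stable unramified covers of an integral domain inside the separable closure
-/

set_option autoImplicit false

universe u

open CategoryTheory AlgebraicGeometry TensorProduct

namespace Groth.Agent.GITLib.TorusApprox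

variable {A : Type u} [CommRing A]

/-- The property of a subalgebra to be finite and formally unramified. -/
def IsFU {Ω : Type u} [CommRing Ω] [Algebra A Ω] (S : Subalgebra A Ω) : Prop :=
  Module.Finite A S ∧ Algebra.FormallyUnramified A S

theorem isFU_range {Ω B : Type u} [CommRing Ω] [Algebra A Ω] [CommRing B] [Algebra A B] [Module.Finite A B]
    [Algebra.FormallyUnramified A B] (f : B →ₐ[A] Ω) : IsFU f.range :=
  ⟨Module.Finite.of_surjective f.rangeRestrict.toLinearMap f.rangeRestrict_surjective,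
    Algebra.FormallyUnramified.of_surjective f.rangeRestrict f.rangeRestrict_surjective⟩

theorem IsFU.sup {Ω : Type u} [CommRing Ω] [Algebra A Ω] {S S' : Subalgebra A Ω} (h : IsFU S) (h' : IsFU S') :
    IsFU (S ⊔ S') := by
  have := h.1; have := h.2; have := h'.1; have := h'.2
  have : Algebra.FormallyUnramified A (S ⊗[A] S') := Algebra.FormallyUnramified.comp A S (S ⊗[A] S')
  have e : (Algebra.TensorProduct.productMap S.val S'.val).range = S ⊔ S' := by
    rw [Algebra.TensorProduct.productMap_range, Subalgebra.range_val, Subalgebra.range_val]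
  exact e ▸ isFU_range _

theorem isFU_bot {Ω : Type u} [CommRing Ω] [Algebra A Ω] : IsFU (⊥ : Subalgebra A Ω) := by
  have e : (Algebra.ofId A Ω).range = ⊥ := SetLike.ext fun x => by
    rw [Algebra.mem_bot]; rfl
  exact e ▸ isFU_range _

variable [IsDomain A]

/-- A clopen piece over the generic point of a finite étale cover. -/
theorem exists_piece {P : ∀ (S' : Scheme.{u}), (S' ⟶ Spec (CommRingCat.of A)) → Prop}
    (h : TwC.Locally (Spec (CommRingCat.of A)) .finiteEtale P) :
    ∃ (U : Scheme.{u}) (g : U ⟶ Spec (CommRingCat.of A)), P U g ∧ IsFinite g ∧ Etale g ∧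
      ∃ x : U, g.base x = (⟨⊥, Ideal.isPrime_bot⟩ : PrimeSpectrum A) := by
  obtain ⟨S', f, hf, he, hs, hU⟩ := h
  obtain ⟨s', hs'⟩ := hs.surj (⟨⊥, Ideal.isPrime_bot⟩ : PrimeSpectrum A)
  obtain ⟨U, hmem, hcl, hP⟩ := hU s'
  have : IsClosedImmersion U.ι := IsClosedImmersion.of_isPreimmersion _ (by simpa using hcl)
  exact ⟨U, U.ι ≫ f, hP, inferInstance, inferInstance, ⟨⟨s', hmem⟩, hs'⟩⟩

variable (K : Type u) [Field K] [Algebra A K] [IsFractionRing A K]
variable (Ω : Type u) [Field Ω] [Algebra K Ω] [IsSepClosed Ω] [Algebra A Ω] [IsScalarTower A K Ω]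

include K in
theorem finite_hom (B : Type u) [CommRing B] [Algebra A B] [Module.Finite A B] : Finite (B →ₐ[A] Ω) := by
  have : Finite (K ⊗[A] B →ₐ[K] Ω) := inferInstance
  exact Finite.of_injective
    (fun f : B →ₐ[A] Ω => (Algebra.TensorProduct.lift (Algebra.ofId K Ω) f fun _ _ => Commute.all _ _ : K ⊗[A] B →ₐ[K] Ω))
    fun f g h => AlgHom.ext fun b => by simpa using DFunLike.congr_fun h (1 ⊗ₜ[A] b)

include K in
theorem nonempty_hom (B : Type u) [CommRing B] [Algebra A B] [Module.Finite A B] [Algebra.FormallyUnramified A B]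
    (q : Ideal B) [q.IsPrime] (hq : q.comap (algebraMap A B) = ⊥) : Nonempty (B →ₐ[A] Ω) := by
  let F := FractionRing (B ⧸ q)
  have hinj : Function.Injective (algebraMap A F) := by
    rw [injective_iff_map_eq_zero]
    intro a ha
    rw [IsScalarTower.algebraMap_apply A (B ⧸ q) F] at ha
    have h1 : algebraMap A (B ⧸ q) a = 0 := IsFractionRing.injective (B ⧸ q) F (ha.trans (map_zero _).symm)
    have h2 : a ∈ q.comap (algebraMap A B) :=
      (Ideal.Quotient.eq_zero_iff_mem (I := q) (a := algebraMap A B a)).1 h1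
    rwa [hq, Ideal.mem_bot] at h2
  letI : Algebra K F := (IsFractionRing.lift hinj : K →+* F).toAlgebra
  haveI : IsScalarTower A K F := IsScalarTower.of_algebraMap_eq fun a => (IsFractionRing.lift_algebraMap hinj a).symm
  haveI : Algebra.FormallyUnramified A (B ⧸ q) :=
    Algebra.FormallyUnramified.of_surjective (Ideal.Quotient.mkₐ A q) (Ideal.Quotient.mkₐ_surjective A q)
  haveI : Algebra.FormallyUnramified (B ⧸ q) F :=
    Algebra.FormallyUnramified.of_isLocalization (nonZeroDivisors (B ⧸ q))
  haveI : Algebra.FormallyUnramified A F := Algebra.FormallyUnramified.comp A (B ⧸ q) F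
  haveI : Algebra.FormallyUnramified K F := Algebra.FormallyUnramified.of_restrictScalars A K F
  haveI : Algebra.EssFiniteType A (B ⧸ q) := inferInstance
  haveI : Algebra.EssFiniteType (B ⧸ q) F := Algebra.EssFiniteType.of_isLocalization F (nonZeroDivisors (B ⧸ q))
  haveI : Algebra.EssFiniteType A F := Algebra.EssFiniteType.comp A (B ⧸ q) F
  haveI : Algebra.EssFiniteType K F := Algebra.EssFiniteType.of_comp A K F
  haveI : Algebra.IsSeparable K F := Algebra.FormallyUnramified.isSeparable K F
  exact ⟨((IsSepClosed.lift : F →ₐ[K] Ω).restrictScalars A).comp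
    ((IsScalarTower.toAlgHom A (B ⧸ q) F).comp (Ideal.Quotient.mkₐ A q))⟩

/-- A finite unramified subalgebra receiving `B` and stable under all automorphisms over the fraction field. -/
theorem exists_stable (B : Type u) [CommRing B] [Algebra A B] [Module.Finite A B]
    [Algebra.FormallyUnramified A B] (q : Ideal B) [q.IsPrime] (hq : q.comap (algebraMap A B) = ⊥) :
    ∃ C : Subalgebra A Ω, IsFU C ∧ Nonempty (B →ₐ[A] C) ∧
      ∀ (τ : Ω ≃ₐ[K] Ω) (c : Ω), c ∈ C → τ c ∈ C := by
  classical
  have := finite_hom (A := A) K Ω B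
  letI := Fintype.ofFinite (B →ₐ[A] Ω)
  let C : Subalgebra A Ω := Finset.univ.sup fun f : B →ₐ[A] Ω => f.range
  have hle : ∀ f : B →ₐ[A] Ω, f.range ≤ C := fun f =>
    Finset.le_sup (f := fun f : B →ₐ[A] Ω => f.range) (Finset.mem_univ f)
  have hC : IsFU C := by
    refine Finset.induction_on (motive := fun s => IsFU (s.sup fun f : B →ₐ[A] Ω => f.range)) Finset.univ ?_ ?_
    · rw [Finset.sup_empty]; exact isFU_bot
    · intro f s _ hs
      rw [Finset.sup_insert]
      exact (isFU_range f).sup hs
  obtain ⟨f₀⟩ := nonempty_hom K Ω B q hq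
  refine ⟨C, hC, ⟨(Subalgebra.inclusion (hle f₀)).comp f₀.rangeRestrict⟩, fun τ c hc => ?_⟩
  have hmap : C.map ((τ : Ω →ₐ[K] Ω).restrictScalars A) ≤ C := by
    rw [Subalgebra.map_le]
    refine Finset.sup_le fun f _ => ?_
    rw [← Subalgebra.map_le, ← AlgHom.range_comp]
    exact hle _
  exact hmap ⟨c, hc, rfl⟩

end Groth.Agent.GITLib.TorusApprox
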