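import Mathlib.RingTheory.DedekindDomain.AdicValuation
import Mathlib.RingTheory.DiscreteValuationRing.Basic
import Mathlib.RingTheory.DiscreteValuationRing.TFAE
import Mathlib.RingTheory.Filtration

/-!
# Local rings with principal maximal ideal, and completions of discrete valuation rings
-/

set_option autoImplicit false

universe u

open IsDedekindDomain HeightOneSpectrum WithZero IsLocalRing

namespace Groth.Agent.GITLib.TorusApprox

section Princ

variable {R : Type u} [CommRing R] [IsLocalRing R] [IsNoetherianRing R] {p : R}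

/-- In a Noetherian local ring with principal maximal ideal every nonzero element is a unit times a power of
the generator. -/
theorem exists_pow_mul_unit (hp : maximalIdeal R = Ideal.span {p}) {x : R} (hx : x ≠ 0) :
    ∃ (n : ℕ) (w : Rˣ), x = p ^ n * w := by
  have hbot : (⨅ i : ℕ, (Ideal.span {p}) ^ i) = ⊥ :=
    Ideal.iInf_pow_eq_bot_of_isLocalRing _ (hp ▸ (maximalIdeal.isMaximal R).ne_top)
  have : ∃ n, x ∉ (Ideal.span {p}) ^ n := by
    by_contra h
    push Not at h
    exact hx ((Submodule.mem_bot R).1 (hbot ▸ Ideal.mem_iInf.2 h))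
  classical
  obtain ⟨n, hn, hmin⟩ : ∃ n, x ∉ (Ideal.span {p}) ^ n ∧ ∀ m < n, x ∈ (Ideal.span {p}) ^ m :=
    ⟨Nat.find this, Nat.find_spec this, fun m hm => by simpa using Nat.find_min this hm⟩
  cases n with
  | zero => exact absurd (by simp) hn
  | succ n =>
    have h1 := hmin n (Nat.lt_succ_self n)
    rw [Ideal.span_singleton_pow, Ideal.mem_span_singleton'] at h1
    obtain ⟨c, hc⟩ := h1
    by_cases hu : IsUnit c
    · exact ⟨n, hu.unit, by rw [IsUnit.unit_spec, mul_comm, hc]⟩
    · exfalso
      apply hn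
      have hcm : c ∈ maximalIdeal R := hu
      rw [hp, Ideal.mem_span_singleton'] at hcm
      obtain ⟨d, rfl⟩ := hcm
      rw [Ideal.span_singleton_pow, Ideal.mem_span_singleton']
      exact ⟨d, by rw [pow_succ', ← hc]; ring⟩

/-- Such a ring with a regular generator is a domain. -/
theorem isDomain_of_princ (hp : maximalIdeal R = Ideal.span {p}) (hreg : IsSMulRegular R p) : IsDomain R := by
  have hpow : ∀ n : ℕ, IsSMulRegular R (p ^ n) := fun n => hreg.pow n
  have : NoZeroDivisors R := ⟨fun {a b} h => by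
    by_contra hab
    push Not at hab
    obtain ⟨m, v, rfl⟩ := exists_pow_mul_unit hp hab.1
    obtain ⟨n, w, rfl⟩ := exists_pow_mul_unit hp hab.2
    have h1 : p ^ (m + n) • ((v * w : Rˣ) : R) = p ^ (m + n) • (0 : R) := by
      rw [smul_zero, smul_eq_mul, pow_add, Units.val_mul, ← h]; ring
    exact (v * w).isUnit.ne_zero (hpow _ h1)⟩
  exact NoZeroDivisors.to_isDomain R

end Princ

section Completion

variable (A : Type u) [CommRing A] [IsDomain A] [IsDiscreteValuationRing A] (v : HeightOneSpectrum A)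
variable (K : Type u) [Field K] [Algebra A K] [IsFractionRing A K]

local notation "Kh" => v.adicCompletion K
local notation "Oh" => v.adicCompletionIntegers K

/-- Uniformiser, regularity, residues and exhaustion for the completion of a discrete valuation ring. -/
theorem exists_uniformizer :
    ∃ π : A, π ≠ 0 ∧ maximalIdeal A = Ideal.span {π} ∧ IsNoetherianRing Oh ∧ IsDomain Oh ∧
      ¬ IsUnit (algebraMap A Oh π) ∧ algebraMap A Oh π ≠ 0 ∧
      (∀ a : Oh, a ≠ 0 → ∃ (n : ℕ) (w : (Oh)ˣ), a = algebraMap A Oh π ^ n * w) ∧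
      (∀ a : Oh, ∃ (a' : A) (b : Oh), a = algebraMap A Oh a' + algebraMap A Oh π * b) ∧
      (∀ x : Kh, ∃ n : ℕ, x * algebraMap A Kh π ^ n ∈ Oh) := by
  have hmax : v.asIdeal = maximalIdeal A :=
    IsLocalRing.eq_maximalIdeal (v.isPrime.isMaximal v.ne_bot)
  have huniq : ∀ w : HeightOneSpectrum A, w = v := fun w =>
    HeightOneSpectrum.ext ((IsLocalRing.eq_maximalIdeal (w.isPrime.isMaximal w.ne_bot)).trans hmax.symm)
  obtain ⟨π, hπ⟩ := v.intValuation_exists_uniformizer
  have hπ0 : π ≠ 0 := by rintro rfl; simp [exp_ne_zero.symm] at hπ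
  obtain ⟨q, hq⟩ := IsDiscreteValuationRing.exists_irreducible A
  have hqm : maximalIdeal A = Ideal.span {q} := hq.maximalIdeal_eq
  obtain ⟨n, u, hu⟩ := IsDiscreteValuationRing.eq_unit_mul_pow_irreducible hπ0 hq
  have hn : n = 1 := by
    have h1 : v.intValuation (u : A) = 1 := (v.intValuation_eq_one_iff).2 fun hmem =>
      (hmax ▸ hmem : (u : A) ∈ maximalIdeal A) u.isUnit
    have h2 : v.intValuation q < 1 := (v.intValuation_lt_one_iff_mem q).2 (hmax ▸ hqm ▸ Ideal.mem_span_singleton_self q)
    have h3 : v.intValuation π = v.intValuation q ^ n := by rw [hu, map_mul, map_pow, h1, one_mul]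
    rw [hπ] at h3
    have hq0 : v.intValuation q ≠ 0 := v.intValuation_ne_zero _ hq.ne_zero
    have h4 := congrArg log h3
    rw [log_exp, log_pow] at h4
    have h5 : log (v.intValuation q) < 0 := by
      have := (log_lt_log hq0 one_ne_zero).2 h2
      simpa using this
    have h6 : (n : ℤ) * log (v.intValuation q) = -1 := by simpa using h4.symm
    have h7 : (n : ℤ) ∣ 1 := ⟨-log (v.intValuation q), by linarith⟩
    exact_mod_cast Int.eq_one_of_dvd_one (by positivity) h7
  subst hn
  have hπm : maximalIdeal A = Ideal.span {π} := by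
    rw [hqm, hu, pow_one, Ideal.span_singleton_mul_left_unit u.isUnit]
  have hvπ : Valued.v (algebraMap A Kh π) = exp (-1 : ℤ) := by
    simp [valuedAdicCompletion_eq_valuation, valuation_of_algebraMap, hπ]
  have hsplit : ∀ a : Oh, a ≠ 0 → ∃ (n : ℕ) (w : (Oh)ˣ), a = algebraMap A Oh π ^ n * w := by
    intro a ha
    have ha0 : (a : Kh) ≠ 0 := fun h => ha (Subtype.ext h)
    have hv0 : Valued.v (a : Kh) ≠ 0 := (Valuation.ne_zero_iff _).2 ha0
    have hle : log (Valued.v (a : Kh)) ≤ 0 := by
      have := (log_le_log hv0 one_ne_zero).2 a.2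
      simpa using this
    obtain ⟨n, hn⟩ := Int.exists_eq_neg_ofNat hle
    have hp0 : algebraMap A Kh π ^ n ≠ 0 := by
      refine pow_ne_zero _ fun h => ?_
      rw [h, map_zero] at hvπ
      exact exp_ne_zero hvπ.symm
    have hw1 : Valued.v ((algebraMap A Kh π ^ n)⁻¹ * (a : Kh)) = 1 := by
      rw [map_mul, map_inv₀, map_pow, hvπ, ← exp_log hv0, hn, ← exp_nsmul]
      simp [← exp_neg, ← exp_add]
    let w : Oh := ⟨(algebraMap A Kh π ^ n)⁻¹ * (a : Kh), hw1.le⟩
    have hw : IsUnit w := adicCompletionIntegers.isUnit_iff_valued_eq_one.2 hw1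
    refine ⟨n, hw.unit, Subtype.ext ?_⟩
    show (a : Kh) = (algebraMap A Oh π : Kh) ^ n * ((algebraMap A Kh π ^ n)⁻¹ * (a : Kh))
    rw [show (algebraMap A Oh π : Kh) = algebraMap A Kh π from rfl, mul_inv_cancel_left₀ hp0]
  have hπu : ¬ IsUnit (algebraMap A Oh π) := fun h => by
    have h1 := adicCompletionIntegers.isUnit_iff_valued_eq_one.1 h
    rw [show ((algebraMap A Oh π : Oh) : Kh) = algebraMap A Kh π from rfl, hvπ] at h1
    exact absurd (exp_injective (h1.trans exp_zero.symm)) (by norm_num)
  have hπne : algebraMap A Oh π ≠ 0 := fun h => by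
    have h1 : algebraMap A Kh π = 0 := congrArg Subtype.val h
    rw [h1, map_zero] at hvπ
    exact exp_ne_zero hvπ.symm
  have hdom : IsDomain Oh := inferInstance
  have hirr : Irreducible (algebraMap A Oh π) := by
    refine ⟨hπu, fun a b hab => ?_⟩
    by_contra h
    push Not at h
    have ha : a ≠ 0 := fun e => hπne (by rw [hab, e, zero_mul])
    have hb : b ≠ 0 := fun e => hπne (by rw [hab, e, mul_zero])
    obtain ⟨i, x, rfl⟩ := hsplit a ha
    obtain ⟨j, y, rfl⟩ := hsplit b hb
    have hi : i ≠ 0 := fun e => h.1 (by subst e; rw [pow_zero, one_mul]; exact x.isUnit)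
    have hj : j ≠ 0 := fun e => h.2 (by subst e; rw [pow_zero, one_mul]; exact y.isUnit)
    obtain ⟨i, rfl⟩ := Nat.exists_eq_succ_of_ne_zero hi
    obtain ⟨j, rfl⟩ := Nat.exists_eq_succ_of_ne_zero hj
    apply hπu
    refine IsUnit.of_mul_eq_one (algebraMap A Oh π ^ (i + j) * (x * y : (Oh)ˣ)) ?_
    apply mul_left_cancel₀ hπne
    rw [Units.val_mul, Nat.succ_eq_add_one, Nat.succ_eq_add_one] at *
    linear_combination -hab
  have : IsDiscreteValuationRing Oh :=
    IsDiscreteValuationRing.ofHasUnitMulPowIrreducibleFactorization ⟨_, hirr, fun {x} hx => by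
      obtain ⟨n, w, hw⟩ := hsplit x hx
      exact ⟨n, w, hw.symm⟩⟩
  refine ⟨π, hπ0, hπm, inferInstance, hdom, hπu, hπne, hsplit, fun a => ?_, fun x => ?_⟩
  · have hopen : IsOpen {y : Kh | Valued.v (y - (a : Kh)) < 1} := by
      have : {y : Kh | Valued.v (y - (a : Kh)) < 1} = (fun y => y - (a : Kh)) ⁻¹' {z | Valued.v z < 1} := rfl
      rw [this]
      have hball : IsOpen {z : Kh | Valued.v z < 1} := by
        simpa [Valuation.restrict_lt_one_iff] using Valued.isOpen_ball Kh 1
      exact hball.preimage (continuous_id.sub continuous_const)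
    obtain ⟨k, hy⟩ := (v.denseRange_algebraMap K).exists_mem_open hopen ⟨a, by simp⟩
    replace hy : Valued.v (algebraMap K Kh k - (a : Kh)) < 1 := hy
    have hk : Valued.v (algebraMap K Kh k) ≤ 1 := by
      have := Valued.v.map_add (algebraMap K Kh k - (a : Kh)) (a : Kh)
      rw [sub_add_cancel] at this
      exact this.trans (max_le hy.le a.2)
    have hk' : v.valuation K k ≤ 1 := by
      rw [← valuedAdicCompletion_eq_valuation']
      exact hk
    obtain ⟨a', ha'⟩ := mem_integers_of_valuation_le_one (R := A) (K := K) k fun w => huniq w ▸ hk'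
    let d : Oh := a - algebraMap A Oh a'
    have hd : Valued.v (d : Kh) < 1 := by
      show Valued.v ((a : Kh) - algebraMap A Kh a') < 1
      rw [IsScalarTower.algebraMap_apply A K Kh, ha', Valuation.map_sub_swap]
      exact hy
    refine ⟨a', ?_⟩
    by_cases hd0 : d = 0
    · exact ⟨0, by rw [mul_zero, add_zero, ← sub_eq_zero]; exact hd0⟩
    obtain ⟨n, w, hw⟩ := hsplit d hd0
    cases n with
    | zero =>
      exfalso
      rw [pow_zero, one_mul] at hw
      exact hd.ne (adicCompletionIntegers.isUnit_iff_valued_eq_one.1 (hw ▸ w.isUnit))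
    | succ n =>
      exact ⟨algebraMap A Oh π ^ n * w, by
        rw [← mul_assoc, ← pow_succ', ← hw]
        show a = _ + (a - _)
        ring⟩
  · by_cases hx : x = 0
    · exact ⟨0, by simp [hx]⟩
    refine ⟨(log (Valued.v x)).natAbs, ?_⟩
    have hv0 : Valued.v x ≠ 0 := (Valuation.ne_zero_iff _).2 hx
    rw [mem_adicCompletionIntegers, map_mul, map_pow, hvπ, ← exp_log hv0, ← exp_nsmul, ← exp_add,
      ← exp_zero, exp_le_exp, log_exp, nsmul_eq_mul]
    omega

end Completion

end Groth.Agent.GITLib.TorusApprox
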