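import Groth.Agent.GITLib.TorusApprox.Dvr
import Mathlib.RingTheory.Unramified.Field
import Mathlib.RingTheory.TensorProduct.Free
import Mathlib.RingTheory.TensorProduct.Finite
import Mathlib.RingTheory.Artinian.Ring
import Mathlib.RingTheory.Localization.AtPrime.Basic

/-!
# The completion of a finite unramified extension at one of its primes
-/

set_option autoImplicit false

universe u

open IsLocalRing TensorProduct

namespace Groth.Agent.GITLib.TorusApprox

variable {A : Type u} [CommRing A] [IsLocalRing A] {π : A} (hπ : maximalIdeal A = Ideal.span {π})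
variable (C : Type u) [CommRing C] [Algebra A C] [Module.Finite A C] [Algebra.FormallyUnramified A C]

include hπ in
theorem mem_of_maximal (q : Ideal C) [q.IsMaximal] : algebraMap A C π ∈ q := by
  have : (q.comap (algebraMap A C)).IsMaximal := Ideal.isMaximal_comap_of_isIntegral_of_isMaximal q
  have h := IsLocalRing.eq_maximalIdeal this
  show π ∈ q.comap (algebraMap A C)
  rw [h, hπ]
  exact Ideal.mem_span_singleton_self π

include hπ in
/-- The radical of the extended maximal ideal is itself, and there are finitely many maximal ideals. -/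
theorem reduced_fibre :
    Finite (MaximalSpectrum C) ∧
      ∀ x : C, (∀ q : Ideal C, q.IsMaximal → x ∈ q) → algebraMap A C π ∣ x := by
  let I : Ideal C := (maximalIdeal A).map (algebraMap A C)
  have hI : I = Ideal.span {algebraMap A C π} := by
    show (maximalIdeal A).map (algebraMap A C) = _
    rw [hπ, Ideal.map_span, Set.image_singleton]
  letI := Ideal.Quotient.field (maximalIdeal A)
  haveI : Algebra.FormallyUnramified A (C ⧸ I) :=
    Algebra.FormallyUnramified.of_surjective (Ideal.Quotient.mkₐ A I) (Ideal.Quotient.mkₐ_surjective A I)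
  haveI : Module.Finite A (C ⧸ I) :=
    Module.Finite.of_surjective (Ideal.Quotient.mkₐ A I).toLinearMap (Ideal.Quotient.mkₐ_surjective A I)
  haveI : Algebra.FormallyUnramified (A ⧸ maximalIdeal A) (C ⧸ I) :=
    Algebra.FormallyUnramified.of_restrictScalars A (A ⧸ maximalIdeal A) (C ⧸ I)
  haveI : Module.Finite (A ⧸ maximalIdeal A) (C ⧸ I) := Module.Finite.of_restrictScalars_finite A _ _
  haveI : IsReduced (C ⧸ I) := Algebra.FormallyUnramified.isReduced_of_field (A ⧸ maximalIdeal A) (C ⧸ I)
  haveI : IsArtinianRing (C ⧸ I) := IsArtinianRing.of_finite (A ⧸ maximalIdeal A) (C ⧸ I)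
  have hle : ∀ q : Ideal C, q.IsMaximal → I ≤ q := fun q hq => by
    rw [hI, Ideal.span_singleton_le_iff_mem]
    exact mem_of_maximal hπ C q
  constructor
  · let f : MaximalSpectrum C → PrimeSpectrum (C ⧸ I) := fun q =>
      ⟨q.asIdeal.map (Ideal.Quotient.mk I),
        Ideal.map_isPrime_of_surjective Ideal.Quotient.mk_surjective (by rw [Ideal.mk_ker]; exact hle _ q.isMaximal)⟩
    refine Finite.of_injective f fun q q' h => MaximalSpectrum.ext ?_
    have h' := congrArg (fun z : PrimeSpectrum (C ⧸ I) => z.asIdeal.comap (Ideal.Quotient.mk I)) h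
    simpa [f, Ideal.comap_map_of_surjective _ Ideal.Quotient.mk_surjective, ← RingHom.ker_eq_comap_bot,
      Ideal.mk_ker, sup_eq_left.2 (hle _ q.isMaximal), sup_eq_left.2 (hle _ q'.isMaximal)] using h'
  · intro x hx
    rw [← Ideal.mem_span_singleton, ← hI, ← Ideal.Quotient.eq_zero_iff_mem]
    refine IsReduced.eq_zero _ ((mem_nilradical (x := Ideal.Quotient.mk I x)).1 ?_)
    rw [nilradical_eq_sInf, Ideal.mem_sInf]
    intro J hJ
    haveI : J.IsPrime := hJ
    have hJm : J.IsMaximal := IsArtinianRing.isMaximal_of_isPrime J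
    exact hx (J.comap (Ideal.Quotient.mk I)) (Ideal.comap_isMaximal_of_surjective _ Ideal.Quotient.mk_surjective)

include hπ in
/-- An element outside a maximal ideal in all the others. -/
theorem exists_mem_others (p : Ideal C) [p.IsMaximal] :
    ∃ s : C, s ∉ p ∧ ∀ q : Ideal C, q.IsMaximal → q ≠ p → s ∈ q := by
  classical
  haveI := (reduced_fibre hπ C).1
  letI := Fintype.ofFinite (MaximalSpectrum C)
  let t : Finset (MaximalSpectrum C) := Finset.univ.filter fun q => q.asIdeal ≠ p
  have h : ¬ t.inf (fun q => q.asIdeal) ≤ p := by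
    rw [(inferInstance : p.IsPrime).inf_le']
    rintro ⟨q, hq, hle⟩
    exact (Finset.mem_filter.1 hq).2 (q.isMaximal.eq_of_le (Ideal.IsPrime.ne_top inferInstance) hle)
  obtain ⟨s, hs, hsp⟩ := SetLike.not_le_iff_exists.1 h
  refine ⟨s, hsp, fun q hq hne => ?_⟩
  exact (Finset.inf_le (f := fun q : MaximalSpectrum C => q.asIdeal)
    (Finset.mem_filter.2 ⟨Finset.mem_univ ⟨q, hq⟩, hne⟩) : _) hs

variable [IsDomain C] [Module.Free A C] [FaithfulSMul A C]
variable (O : Type u) [CommRing O] [Algebra A O] [IsDomain O] [IsNoetherianRing O]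

include hπ in
/-- The local ring of `O ⊗ C` over a maximal ideal of `C`. -/
theorem exists_local (p : Ideal C) [p.IsMaximal] (hunit : ¬ IsUnit (algebraMap A O π))
    (hne : algebraMap A O π ≠ 0) (hinjO : Function.Injective (algebraMap A O))
    (hsplit : ∀ a : O, a ≠ 0 → ∃ (n : ℕ) (w : Oˣ), a = algebraMap A O π ^ n * w)
    (hres : ∀ a : O, ∃ (a' : A) (b : O), a = algebraMap A O a' + algebraMap A O π * b) :
    ∃ (W : Type u) (_ : CommRing W) (_ : IsDomain W) (_ : Algebra A W) (iO : O →ₐ[A] W) (iC : C →ₐ[A] W),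
      ¬ IsUnit (algebraMap A W π) ∧ algebraMap A W π ≠ 0 ∧
      (∀ w : W, w ≠ 0 → ∃ (n : ℕ) (x : Wˣ), w = algebraMap A W π ^ n * x) ∧
      Function.Injective iO ∧ Function.Injective iC ∧
      (∀ c, c ∉ p → IsUnit (iC c)) ∧ (∀ c ∈ p, algebraMap A W π ∣ iC c) ∧
      ∀ σ : C ≃ₐ[A] C, (∀ c, σ c ∈ p ↔ c ∈ p) →
        ∃ s : W →ₐ[A] W, s.comp iO = iO ∧ s.comp iC = iC.comp (σ : C →ₐ[A] C) := by
  let E := O ⊗[A] C
  let jO : O →ₐ[A] E := Algebra.TensorProduct.includeLeft
  let jC : C →ₐ[A] E := Algebra.TensorProduct.includeRight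
  let πE : E := algebraMap A E π
  have hA : Ideal.span {π} ≤ RingHom.ker (algebraMap A (C ⧸ p)) := by
    rw [Ideal.span_singleton_le_iff_mem, RingHom.mem_ker]
    exact Ideal.Quotient.eq_zero_iff_mem.2 (mem_of_maximal hπ C p)
  -- residues
  choose r b hrb using hres
  have hπ0 : algebraMap A (C ⧸ p) π = 0 := Ideal.Quotient.eq_zero_iff_mem.2 (mem_of_maximal hπ C p)
  have hwd : ∀ {a : A} {y : O}, algebraMap A O a = algebraMap A O π * y → algebraMap A (C ⧸ p) a = 0 := by
    intro a y h
    have ha : ¬ IsUnit a := fun hu => hunit (isUnit_of_mul_isUnit_left (h ▸ hu.map (algebraMap A O)))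
    have ha' : a ∈ maximalIdeal A := ha
    exact hA (hπ ▸ ha')
  have hr : ∀ (a : O) (a' : A) (y : O), a = algebraMap A O a' + algebraMap A O π * y →
      algebraMap A (C ⧸ p) (r a) = algebraMap A (C ⧸ p) a' := by
    intro a a' y h
    rw [← sub_eq_zero, ← map_sub]
    refine hwd (y := y - b a) ?_
    rw [map_sub]
    linear_combination h - hrb a
  let qO : O →ₐ[A] C ⧸ p :=
    { toFun := fun a => algebraMap A (C ⧸ p) (r a)
      map_one' := (hr 1 1 0 (by simp)).trans (map_one _)
      map_mul' := fun x y => by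
        rw [← map_mul]
        refine hr _ _ (algebraMap A O (r x) * b y + b x * algebraMap A O (r y) + algebraMap A O π * b x * b y) ?_
        rw [map_mul]
        linear_combination y * hrb x + (algebraMap A O (r x) + algebraMap A O π * b x) * hrb y
      map_zero' := (hr 0 0 0 (by simp)).trans (map_zero _)
      map_add' := fun x y => by
        rw [← map_add]
        refine hr _ _ (b x + b y) ?_
        rw [map_add]
        linear_combination hrb x + hrb y
      commutes' := fun a => hr _ a 0 (by simp) }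
  let q : E →ₐ[A] C ⧸ p :=
    Algebra.TensorProduct.lift qO (Ideal.Quotient.mkₐ A p) fun _ _ => Commute.all _ _
  have hqC : ∀ c, q (jC c) = Ideal.Quotient.mk p c := fun c => by show Algebra.TensorProduct.lift qO (Ideal.Quotient.mkₐ A p) _ ((1 : O) ⊗ₜ[A] c) = _; rw [Algebra.TensorProduct.lift_tmul, map_one, _root_.one_mul]; rfl
  let P : Ideal E := RingHom.ker q
  haveI hP : P.IsPrime := RingHom.ker_isPrime q
  have hdec : ∀ z : E, ∃ (c : C) (w : E), z = jC c + πE * w := by
    intro z
    induction z using TensorProduct.induction_on with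
    | zero => exact ⟨0, 0, by simp⟩
    | tmul a c =>
      refine ⟨r a • c, b a ⊗ₜ[A] c, ?_⟩
      show a ⊗ₜ[A] c = (1 : O) ⊗ₜ[A] (r a • c) + πE * (b a ⊗ₜ[A] c)
      rw [TensorProduct.tmul_smul, TensorProduct.smul_tmul', ← Algebra.algebraMap_eq_smul_one,
        show πE = algebraMap A O π ⊗ₜ[A] (1 : C) from rfl, Algebra.TensorProduct.tmul_mul_tmul, _root_.one_mul,
        ← TensorProduct.add_tmul, ← hrb]
    | add x y hx hy =>
      obtain ⟨c, w, rfl⟩ := hx
      obtain ⟨c', w', rfl⟩ := hy
      exact ⟨c + c', w + w', by rw [map_add]; ring⟩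
  have hπP : q πE = 0 := (q.commutes π).trans hπ0
  let W := Localization.AtPrime P
  let ι : E →ₐ[A] W := IsScalarTower.toAlgHom A E W
  haveI : Algebra.FiniteType O E := inferInstance
  haveI : IsNoetherianRing E := Algebra.FiniteType.isNoetherianRing O E
  haveI : IsNoetherianRing W := IsLocalization.isNoetherianRing P.primeCompl W inferInstance
  have hregE : ∀ z : E, πE * z = 0 → z = 0 := by
    intro z hz
    haveI : Module.Free O E := Module.Free.tensor
    have h1 : algebraMap A O π • z = 0 := by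
      rw [Algebra.smul_def, ← IsScalarTower.algebraMap_apply A O E]
      exact hz
    exact (smul_eq_zero.1 h1).resolve_left hne
  have hregW : IsSMulRegular W (algebraMap A W π) := by
    intro x y hxy
    rw [← sub_eq_zero] at hxy ⊢
    simp only [smul_eq_mul, ← mul_sub] at hxy
    obtain ⟨⟨z, s⟩, hzs⟩ := IsLocalization.mk'_surjective P.primeCompl (x - y)
    rw [← hzs, IsScalarTower.algebraMap_apply A E W, IsLocalization.mul_mk'_eq_mk'_of_mul,
      IsLocalization.mk'_eq_zero_iff] at hxy
    obtain ⟨t, ht⟩ := hxy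
    rw [← hzs, IsLocalization.mk'_eq_zero_iff]
    exact ⟨t, hregE _ (by rw [← ht]; ring)⟩
  obtain ⟨s₀, hs₀, hs₀'⟩ := exists_mem_others hπ C p
  have hCu : ∀ c, c ∉ p → IsUnit (ι (jC c)) := fun c hc =>
    IsLocalization.map_units W (⟨jC c, fun h => hc (Ideal.Quotient.eq_zero_iff_mem.1 ((hqC c).symm.trans h))⟩ : P.primeCompl)
  have hCd : ∀ c ∈ p, algebraMap A W π ∣ ι (jC c) := by
    intro c hc
    have hd : algebraMap A C π ∣ s₀ * c := (reduced_fibre hπ C).2 _ fun q' hq' => by
      by_cases hq : q' = p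
      · exact hq ▸ Ideal.mul_mem_left _ _ hc
      · exact Ideal.mul_mem_right _ _ (hs₀' q' hq' hq)
    have h2 : algebraMap A W π ∣ ι (jC s₀) * ι (jC c) := by
      have := map_dvd (ι.comp jC) hd
      rw [AlgHom.commutes, map_mul] at this
      exact this
    exact (hCu s₀ hs₀).dvd_mul_left.1 h2
  have hmax : maximalIdeal W = Ideal.span {algebraMap A W π} := by
    apply le_antisymm
    · rw [← Localization.AtPrime.map_eq_maximalIdeal, Ideal.map_le_iff_le_comap]
      intro z hz
      obtain ⟨c, w, rfl⟩ := hdec z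
      have hc : c ∈ p := by
        have h1 : q (jC c + πE * w) = 0 := hz
        rw [map_add, map_mul, hπP, zero_mul, add_zero, hqC] at h1
        exact Ideal.Quotient.eq_zero_iff_mem.1 h1
      rw [Ideal.mem_comap, Ideal.mem_span_singleton, map_add, map_mul,
        show algebraMap E W πE = algebraMap A W π from (IsScalarTower.algebraMap_apply A E W π).symm]
      exact dvd_add (hCd c hc) (dvd_mul_right _ _)
    · rw [Ideal.span_singleton_le_iff_mem, IsScalarTower.algebraMap_apply A E W]
      exact (IsLocalization.AtPrime.to_map_mem_maximal_iff W P _).2 hπP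
  haveI hdom : IsDomain W := isDomain_of_princ hmax hregW
  have hπu : ¬ IsUnit (algebraMap A W π) := fun h =>
    (maximalIdeal.isMaximal W).ne_top (hmax ▸ Ideal.span_singleton_eq_top.2 h)
  have hπne : algebraMap A W π ≠ 0 := fun h => one_ne_zero (hregW (show _ • (1 : W) = _ • (0 : W) by simp [h]))
  have hOinj : Function.Injective (ι.comp jO) := by
    rw [injective_iff_map_eq_zero]
    intro a ha
    by_contra h0
    obtain ⟨n, w, rfl⟩ := hsplit a h0
    rw [map_mul, map_pow, AlgHom.commutes] at ha
    exact mul_ne_zero (pow_ne_zero _ hπne) (w.isUnit.map (ι.comp jO)).ne_zero ha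
  have hCinj : Function.Injective (ι.comp jC) := by
    rw [injective_iff_map_eq_zero]
    intro c hc
    by_contra hc0
    haveI : Algebra.IsIntegral A C := inferInstance
    obtain ⟨a, ha, hdvd⟩ : ∃ a : A, a ≠ 0 ∧ algebraMap A C a ∈ Ideal.span {c} := by
      have hne' : (Ideal.span {c}).comap (algebraMap A C) ≠ ⊥ :=
        Ideal.comap_ne_bot_of_integral_mem hc0 (Ideal.mem_span_singleton_self c) (Algebra.IsIntegral.isIntegral c)
      obtain ⟨a, ha, ha0⟩ := Submodule.exists_mem_ne_zero_of_ne_bot hne'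
      exact ⟨a, ha0, ha⟩
    obtain ⟨d, hd⟩ := Ideal.mem_span_singleton'.1 hdvd
    have h1 : algebraMap A W a = 0 := by
      rw [← (ι.comp jC).commutes, ← hd, map_mul, hc, mul_zero]
    have h2 : algebraMap A O a = 0 := hOinj (by rw [AlgHom.commutes, h1, map_zero])
    exact ha (hinjO (by rw [h2, map_zero]))
  refine ⟨W, inferInstance, hdom, inferInstance, ι.comp jO, ι.comp jC, hπu, hπne,
    fun w hw => exists_pow_mul_unit hmax hw, hOinj, hCinj, hCu, hCd, fun σ hσ => ?_⟩
  let e : E →ₐ[A] E := Algebra.TensorProduct.map (AlgHom.id A O) (σ : C →ₐ[A] C)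
  have he : P = P.comap e.toRingHom := by
    ext z
    obtain ⟨c, w, rfl⟩ := hdec z
    have h1 : e (jC c) = jC (σ c) := Algebra.TensorProduct.map_tmul _ _ 1 c
    have h2 : e πE = πE := e.commutes π
    show q _ = 0 ↔ q (e _) = 0
    simp only [map_add, map_mul, h1, h2, hπP, zero_mul, add_zero, hqC, Ideal.Quotient.eq_zero_iff_mem, hσ]
  let s : W →+* W := Localization.localRingHom P P e.toRingHom he
  have hs : ∀ z, s (ι z) = ι (e z) := Localization.localRingHom_to_map P P e.toRingHom he
  refine ⟨{ s with commutes' := fun a => ?_ }, AlgHom.ext fun a => ?_, AlgHom.ext fun c => ?_⟩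
  · show s (algebraMap A W a) = _
    rw [← ι.commutes, hs, e.commutes]
  · show s (ι (jO a)) = ι (jO a)
    rw [hs]
    exact congrArg ι (Algebra.TensorProduct.map_tmul _ _ a 1 |>.trans (by rw [AlgHom.id_apply, map_one]; rfl))
  · show s (ι (jC c)) = ι (jC (σ c))
    rw [hs]
    exact congrArg ι (Algebra.TensorProduct.map_tmul _ _ 1 c)

end Groth.Agent.GITLib.TorusApprox
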