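import Groth.Agent.GITLib.TorusApprox.Cochar
import Mathlib.RingTheory.Localization.FractionRing
import Mathlib.FieldTheory.Galois.Infinite
import Mathlib.GroupTheory.QuotientGroup.Defs

/-!
# The norm of the value of a cocharacter, and its descent
-/

set_option autoImplicit false
set_option linter.style.haveILetI false
set_option backward.isDefEq.respectTransparency false
set_option synthInstance.maxHeartbeats 400000

universe u

open CategoryTheory MonoidalCategory CartesianMonoidalCategory MonObj GrpObj AlgebraicGeometry Limits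

noncomputable section

namespace Groth.Agent.GITLib.TorusApprox

section

variable {A C : Type u} [CommRing A] [CommRing C] [IsDomain C] [Algebra A C]
variable (T' : Over (Spec (CommRingCat.of A))) [GrpObj T'] {M : Type} [AddCommGroup M]
variable (e : Grp.mk (Red.bc (Spec.map (CommRingCat.ofHom (algebraMap A C))) T') ≅
  Grp.mk (Red.DS (Spec (CommRingCat.of C)) M))
variable {G : Type u} [Group G] [Finite G] (act : G →* (C ≃ₐ[A] C))

/-- The automorphism of the fraction field. -/
def actL (g : G) : FractionRing C →ₐ[A] FractionRing C :=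
  IsFractionRing.liftAlgHom (g := (IsScalarTower.toAlgHom A C (FractionRing C)).comp (act g : C →ₐ[A] C))
    ((IsFractionRing.injective C (FractionRing C)).comp (act g).injective)

theorem actL_algebraMap (g : G) (c : C) :
    actL act g (algebraMap C (FractionRing C) c) = algebraMap C (FractionRing C) (act g c) :=
  IsFractionRing.lift_algebraMap (A := C) (K := FractionRing C)
    (g := ((IsScalarTower.toAlgHom A C (FractionRing C)).comp (act g : C →ₐ[A] C)).toRingHom)
    ((IsFractionRing.injective C (FractionRing C)).comp (act g).injective) c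

include e in
/-- The norm of the value of a cocharacter at an element fixed by a subgroup. -/
theorem exists_norm (φ : M →+ ℤ) (t : C) (ht : t ≠ 0) (D : Subgroup G) (htD : ∀ g ∈ D, act g t = t)
    (hfix : ∀ g ∈ D, ∀ {R : Type u} [CommRing R] [Algebra A R] (h : C →ₐ[A] R) (u : Rˣ),
      lam T' e φ (h.comp (act g : C →ₐ[A] C)) u = lam T' e φ h u) :
    ∃ bL : sp A (FractionRing C) ⟶ T', (∀ g, mapPt T' (actL act g) bL = bL) ∧
      ∀ {R R' : Type u} [CommRing R] [Algebra A R] [CommRing R'] [Algebra A R'] [Algebra C R] [IsScalarTower A C R]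
        (f : FractionRing C →ₐ[A] R') (j : R →ₐ[A] R') (hj : f.comp (IsScalarTower.toAlgHom A C _) =
          j.comp (IsScalarTower.toAlgHom A C R)),
        (∀ g, g ∉ D → IsUnit (algebraMap C R (act g t))) →
        ∀ u : R'ˣ, (u : R') = f (algebraMap C _ t) →
        ∃ z : sp A R ⟶ T', mapPt T' f bL =
          lam T' e φ (j.comp (IsScalarTower.toAlgHom A C R)) u * mapPt T' j z := by
  classical
  let L := FractionRing C
  let iL : C →ₐ[A] L := IsScalarTower.toAlgHom A C L
  letI : CommMonoid (sp A L ⟶ T') :=
    { (inferInstance : Monoid (sp A L ⟶ T')) with mul_comm := mul_comm_split T' e }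
  let tU : G → Lˣ := fun g => Units.mk0 (iL (act g t))
    fun h => ht ((act g).injective ((IsFractionRing.injective C L (h.trans (map_zero _).symm)).trans (map_zero _).symm))
  let y : G → (sp A L ⟶ T') := fun g => lam T' e φ (iL.comp (act g : C →ₐ[A] C)) (tU g)
  have hyD : ∀ (g : G) (d : G), d ∈ D → y (g * d) = y g := by
    intro g d hd
    have e1 : tU (g * d) = tU g := Units.ext (by
      show iL (act (g * d) t) = iL (act g t)
      rw [map_mul, AlgEquiv.mul_apply, htD d hd])
    have e2 : iL.comp (act (g * d) : C →ₐ[A] C) = (iL.comp (act g : C →ₐ[A] C)).comp (act d : C →ₐ[A] C) := by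
      rw [map_mul]; rfl
    show lam T' e φ _ _ = _
    rw [e1, e2]
    exact hfix d hd _ _
  let Y : G ⧸ D → (sp A L ⟶ T') := Quotient.lift y fun g g' h => by
    have h' : g⁻¹ * g' ∈ D := QuotientGroup.leftRel_apply.1 h
    have := hyD g _ h'
    rw [mul_inv_cancel_left] at this
    exact this.symm
  letI : Fintype (G ⧸ D) := Fintype.ofFinite _
  refine ⟨∏ q : G ⧸ D, Y q, fun g => ?_, ?_⟩
  · rw [map_prod]
    refine Fintype.prod_equiv (MulAction.toPerm g) _ _ fun q => ?_
    induction q using QuotientGroup.induction_on with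
    | H h =>
      show mapPt T' (actL act g) (y h) = y (g * h)
      rw [mapPt_lam]
      have e1 : (actL act g).comp (iL.comp (act h : C →ₐ[A] C)) = iL.comp (act (g * h) : C →ₐ[A] C) :=
        AlgHom.ext fun c => by
          show actL act g (algebraMap C L (act h c)) = algebraMap C L (act (g * h) c)
          rw [actL_algebraMap, map_mul]
          rfl
      have e2 : Units.map (actL act g : L →* L) (tU h) = tU (g * h) := Units.ext (by
        show actL act g (algebraMap C L (act h t)) = algebraMap C L (act (g * h) t)
        rw [actL_algebraMap, map_mul]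
        rfl)
      rw [e1, e2]
  · intro R R' _ _ _ _ _ _ f j hj hunit u hu
    letI : Algebra C R' := (j.comp (IsScalarTower.toAlgHom A C R)).toRingHom.toAlgebra
    haveI : IsScalarTower A C R' := IsScalarTower.of_algebraMap_eq fun a =>
      ((j.comp (IsScalarTower.toAlgHom A C R)).commutes a).symm
    letI : CommMonoid (sp A R' ⟶ T') :=
      { (inferInstance : Monoid (sp A R' ⟶ T')) with mul_comm := mul_comm_split T' e }
    letI : CommMonoid (sp A R ⟶ T') :=
      { (inferInstance : Monoid (sp A R ⟶ T')) with mul_comm := mul_comm_split T' e }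
    have hother : ∀ q : G ⧸ D, q ≠ ((1 : G) : G ⧸ D) → ∃ z : sp A R ⟶ T', mapPt T' j z = mapPt T' f (Y q) := by
      intro q
      induction q using QuotientGroup.induction_on with
      | H g =>
        intro hq
        have hgD : g ∉ D := fun h => hq ((QuotientGroup.eq).2 (by simpa using D.inv_mem h))
        refine ⟨lam T' e φ ((IsScalarTower.toAlgHom A C R).comp (act g : C →ₐ[A] C)) (hunit g hgD).unit, ?_⟩
        show _ = mapPt T' f (y g)
        rw [mapPt_lam, mapPt_lam, ← AlgHom.comp_assoc, ← AlgHom.comp_assoc, hj]
        congr 1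
        exact Units.ext (DFunLike.congr_fun hj (act g t)).symm
    choose z hz using hother
    refine ⟨∏ q : {q : G ⧸ D // q ≠ ((1 : G) : G ⧸ D)}, z q.1 q.2, ?_⟩
    rw [map_prod, Fintype.prod_eq_mul_prod_subtype_ne _ ((1 : G) : G ⧸ D), map_prod]
    congr 1
    · show mapPt T' f (y 1) = _
      rw [mapPt_lam]
      congr 1
      · rw [← hj, map_one]; rfl
      · refine Units.ext ?_
        show f (iL (act 1 t)) = _
        rw [map_one, hu]
        rfl
    · exact Fintype.prod_congr _ _ fun q => (hz q.1 q.2).symm

end

section Descent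

variable {A : Type u} [CommRing A] [IsDomain A] {Ω : Type u} [Field Ω] [Algebra A Ω]
  [Algebra (FractionRing A) Ω] [IsScalarTower A (FractionRing A) Ω] [IsGalois (FractionRing A) Ω]
variable (C : Subalgebra A Ω)
variable (T' : Over (Spec (CommRingCat.of A))) [GrpObj T'] [IsAffine T'.left]

/-- Invariant points of the fraction field of a Galois stable subalgebra come from the base field. -/
theorem exists_descend (bL : sp A (FractionRing C) ⟶ T')
    (hinv : ∀ τ : Ω ≃ₐ[FractionRing A] Ω, ∃ (γ' : C ≃ₐ[A] C) (r : FractionRing C →ₐ[A] FractionRing C),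
      (∀ c : C, (γ' c : Ω) = τ c) ∧
      (∀ c : C, r (algebraMap C _ c) = algebraMap C _ (γ' c)) ∧ mapPt T' r bL = bL) :
    ∃ b : sp A (FractionRing A) ⟶ T', ∀ i : FractionRing A →ₐ[A] FractionRing C, mapPt T' i b = bL := by
  let L := FractionRing C
  let iLΩ : L →ₐ[A] Ω := IsFractionRing.liftAlgHom (K := L) (g := C.val) Subtype.val_injective
  have hiLΩ : ∀ c : C, iLΩ (algebraMap C L c) = (c : Ω) := fun c =>
    IsFractionRing.lift_algebraMap (A := C) (K := L) (g := C.val.toRingHom) Subtype.val_injective c
  obtain ⟨b, hb⟩ := exists_mapPt_eq T' (IsScalarTower.toAlgHom A (FractionRing A) Ω)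
    (algebraMap (FractionRing A) Ω).injective (mapPt T' iLΩ bL) (fun a => by
      obtain ⟨k, hk⟩ := (InfiniteGalois.mem_range_algebraMap_iff_fixed (k := FractionRing A)
        (coord T' (mapPt T' iLΩ bL) a)).2 fun τ => by
          obtain ⟨g', r, hg, hr, hfix⟩ := hinv τ
          have h1 : (τ.toAlgHom.restrictScalars A).comp iLΩ = iLΩ.comp r := by
            have h0 : ((τ.toAlgHom.restrictScalars A).comp iLΩ).toRingHom = (iLΩ.comp r).toRingHom := by
              refine IsLocalization.ringHom_ext (nonZeroDivisors C) (RingHom.ext fun c => ?_)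
              show τ (iLΩ (algebraMap C L c)) = iLΩ (r (algebraMap C L c))
              rw [hiLΩ, hr, hiLΩ, hg]
            exact AlgHom.ext fun l => DFunLike.congr_fun h0 l
          have h2 : mapPt T' (τ.toAlgHom.restrictScalars A) (mapPt T' iLΩ bL) = mapPt T' iLΩ bL := by
            rw [mapPt_mapPt, h1, ← mapPt_mapPt, hfix]
          exact (coord_mapPt T' (τ.toAlgHom.restrictScalars A) _ a).symm.trans (by rw [h2])
      exact ⟨k, hk⟩)
  refine ⟨b, fun i => ?_⟩
  apply mapPt_injective T' iLΩ iLΩ.toRingHom.injective
  rw [mapPt_mapPt, ← hb]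
  congr 2
  exact IsLocalization.algHom_ext (nonZeroDivisors A) (Subsingleton.elim _ _)

end Descent

end Groth.Agent.GITLib.TorusApprox

end
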