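import Groth.Agent.GITLib.TorusApprox.Pieces
import Groth.Agent.GITLib.TorusApprox.Norm
import Groth.Agent.GITLib.TorusApprox.Cover
import Groth.Agent.DiagRig.DSQuot
import Groth.Prelude.Def_ActBC

/-!
# Points over the completion of a group split by an unramified cover
-/

set_option autoImplicit false
set_option linter.style.haveILetI false
set_option backward.isDefEq.respectTransparency false
set_option synthInstance.maxHeartbeats 400000
set_option maxHeartbeats 600000

universe u

open CategoryTheory MonoidalCategory CartesianMonoidalCategory MonObj GrpObj AlgebraicGeometry Limits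
open IsDedekindDomain IsLocalRing

noncomputable section

namespace Groth.Agent.GITLib.TorusApprox

theorem exists_liftAlg {R D K L : Type u} [CommRing R] [CommRing D] [Field K] [Field L] [Algebra D K] [IsFractionRing D K]
    [Algebra R D] [Algebra R K] [IsScalarTower R D K] [Algebra R L] (g : D →ₐ[R] L) (hg : Function.Injective g) :
    ∃ f : K →ₐ[R] L, f.comp (IsScalarTower.toAlgHom R D K) = g := by
  refine ⟨IsFractionRing.liftAlgHom hg, AlgHom.ext fun d => ?_⟩
  rw [AlgHom.comp_apply, IsScalarTower.coe_toAlgHom', IsFractionRing.liftAlgHom_apply]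
  exact IsFractionRing.lift_algebraMap hg d

/-- A split group stays split after base change. -/
theorem exists_split_bc {S S' S'' : Scheme.{u}} (f : S'' ⟶ S') (g : S' ⟶ S) (d : S'' ⟶ S) (h : f ≫ g = d)
    (G : Over S) [GrpObj G] (M : Type) [AddCommGroup M]
    (e : Grp.mk (Red.bc g G) ≅ Grp.mk (Red.DS S' M)) :
    Nonempty (Grp.mk (Red.bc d G) ≅ Grp.mk (Red.DS S'' M)) := by
  obtain ⟨e', -⟩ := DiagRig.DSQuot.exists_dsBC f M
  exact ⟨(Grp.mkIso' (ActBC.bcCompIso f g G h)).symm ≪≫ (Over.pullback f).mapGrp.mapIso e ≪≫ e'⟩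

section

theorem lam_mul {A C : Type u} [CommRing A] [CommRing C] [Algebra A C] (T' : Over (Spec (CommRingCat.of A)))
    [GrpObj T'] {M : Type} [AddCommGroup M]
    (e : Grp.mk (Red.bc (Spec.map (CommRingCat.ofHom (algebraMap A C))) T') ≅
      Grp.mk (Red.DS (Spec (CommRingCat.of C)) M))
    {R : Type u} [CommRing R] [Algebra A R] (φ : M →+ ℤ) (g : C →ₐ[A] R) (u v : Rˣ) :
    lam T' e φ g (u * v) = lam T' e φ g u * lam T' e φ g v := by
  letI : Algebra C R := g.toRingHom.toAlgebra
  haveI : IsScalarTower A C R := IsScalarTower.of_algebraMap_eq fun a => (g.commutes a).symm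
  rw [show g = IsScalarTower.toAlgHom A C R from rfl, lam_algebra, lam_algebra, lam_algebra, ← map_mul]
  congr 1
  refine MonoidHom.ext fun m => ?_
  show (((u * v) ^ _ : Rˣ) : R) = _ * _
  rw [mul_zpow, Units.val_mul]
  rfl

theorem mul_comm_hom {A C : Type u} [CommRing A] [CommRing C] [Algebra A C] (T' : Over (Spec (CommRingCat.of A)))
    [GrpObj T'] {M : Type} [AddCommGroup M]
    (e : Grp.mk (Red.bc (Spec.map (CommRingCat.ofHom (algebraMap A C))) T') ≅
      Grp.mk (Red.DS (Spec (CommRingCat.of C)) M))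
    {R : Type u} [CommRing R] [Algebra A R] (g : C →ₐ[A] R) (x y : sp A R ⟶ T') : x * y = y * x := by
  letI : Algebra C R := g.toRingHom.toAlgebra
  haveI : IsScalarTower A C R := IsScalarTower.of_algebraMap_eq fun a => (g.commutes a).symm
  exact mul_comm_split T' e x y

end

section

variable {A C : Type u} [CommRing A] [IsDomain A] [IsLocalRing A] [CommRing C] [IsDomain C] [IsNoetherianRing C]
  [Algebra A C] [Module.Finite A C] [Algebra.FormallyUnramified A C] [Module.Free A C] [FaithfulSMul A C]
variable {O K' : Type u} [CommRing O] [IsDomain O] [IsNoetherianRing O] [Field K'] [Algebra A O] [Algebra A K']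
  [Algebra O K'] [IsScalarTower A O K'] [IsFractionRing O K']
  [Algebra (FractionRing A) K'] [IsScalarTower A (FractionRing A) K']
variable (T' : Over (Spec (CommRingCat.of A))) [GrpObj T'] [IsAffine T'.left] {M : Type} [AddCommGroup M]
variable (e : Grp.mk (Red.bc (Spec.map (CommRingCat.ofHom (algebraMap A C))) T') ≅
  Grp.mk (Red.DS (Spec (CommRingCat.of C)) M))
variable {G : Type u} [Group G] [Finite G] (act : G →* (C ≃ₐ[A] C))

include e in
/-- The abstract decomposition. -/
theorem exists_decomp_abs {π : A} (hπm : maximalIdeal A = Ideal.span {π}) (hπu : ¬ IsUnit (algebraMap A O π))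
    (hπne : algebraMap A O π ≠ 0) (hinjO : Function.Injective (algebraMap A O))
    (hsplitO : ∀ a : O, a ≠ 0 → ∃ (n : ℕ) (w : Oˣ), a = algebraMap A O π ^ n * w)
    (hresO : ∀ a : O, ∃ (a' : A) (b : O), a = algebraMap A O a' + algebraMap A O π * b)
    (hexh : ∀ x : K', ∃ (n : ℕ) (o : O), x * algebraMap A K' π ^ n = algebraMap O K' o)
    (p : Ideal C) [p.IsMaximal] (x : sp A K' ⟶ T') :
    ∃ bL : sp A (FractionRing C) ⟶ T', (∀ g, mapPt T' (actL act g) bL = bL) ∧
      ∀ b : sp A (FractionRing A) ⟶ T', (∀ i : FractionRing A →ₐ[A] FractionRing C, mapPt T' i b = bL) →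
        ∃ a : sp A O ⟶ T', x = mapPt T' (IsScalarTower.toAlgHom A O K') a *
          mapPt T' (IsScalarTower.toAlgHom A (FractionRing A) K') b := by
  classical
  obtain ⟨W, instW, hdomW, algW, iO, iC, hWu, hWne, hWsplit, hOinj, hCinj, hCu, hCd, hσW⟩ :=
    exists_local hπm C O p hπu hπne hinjO hsplitO hresO
  let F := FractionRing W
  let jW : W →ₐ[A] F := IsScalarTower.toAlgHom A W F
  have hjW : Function.Injective jW := IsFractionRing.injective W F
  have hgO : Function.Injective (jW.comp iO) := hjW.comp hOinj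
  have hgC : Function.Injective (jW.comp iC) := hjW.comp hCinj
  obtain ⟨iK, hiK'⟩ := exists_liftAlg (K := K') (jW.comp iO) hgO
  have hiK : ∀ a : O, iK (algebraMap O K' a) = algebraMap W F (iO a) := fun a => DFunLike.congr_fun hiK' a
  obtain ⟨iLF, hiLF⟩ := exists_liftAlg (K := FractionRing C) (jW.comp iC) hgC
  obtain ⟨φ, ⟨z₀, hz₀⟩, hcoch⟩ := exists_cochar T' e π iC hWu hWne hWsplit (mapPt T' iK x)
  let D : Subgroup G :=
    { carrier := {g | ∀ c, act g c ∈ p ↔ c ∈ p}
      one_mem' := fun c => by rw [map_one]; exact Iff.rfl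
      mul_mem' := fun {a b} ha hb c => by rw [map_mul]; exact (ha (act b c)).trans (hb c)
      inv_mem' := fun {a} ha c => by
        have h := ha (act a⁻¹ c)
        rw [← AlgEquiv.mul_apply, ← map_mul, mul_inv_cancel, map_one] at h
        exact h.symm }
  obtain ⟨N, tC, htC, hN, htD, htnD⟩ := exists_fixed_unif C act hπm p
  have hfix : ∀ g ∈ D, ∀ {R : Type u} [CommRing R] [Algebra A R] (h : C →ₐ[A] R) (u : Rˣ),
      lam T' e φ (h.comp (act g : C →ₐ[A] C)) u = lam T' e φ h u := by
    intro g hg R instR algR h u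
    obtain ⟨s, hsO, hsC⟩ := hσW (act g) hg
    have hsinj : Function.Injective s := by
      rw [injective_iff_map_eq_zero]
      intro w hw
      by_contra h0
      obtain ⟨n, u, rfl⟩ := hWsplit w h0
      rw [map_mul, map_pow, s.commutes] at hw
      exact mul_ne_zero (pow_ne_zero _ hWne) (u.isUnit.map s).ne_zero hw
    have hgs : Function.Injective (jW.comp s) := hjW.comp hsinj
    obtain ⟨sF, hsF⟩ : ∃ sF : F →ₐ[A] F, sF.comp jW = jW.comp s := exists_liftAlg (K := F) (jW.comp s) hgs
    have hsK : sF.comp iK = iK := by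
      have h1 : (sF.comp iK).toRingHom = iK.toRingHom := by
        refine IsLocalization.ringHom_ext (nonZeroDivisors O) (RingHom.ext fun a => ?_)
        show sF (iK (algebraMap O K' a)) = iK (algebraMap O K' a)
        rw [hiK, show sF (algebraMap W F (iO a)) = algebraMap W F (s (iO a)) from DFunLike.congr_fun hsF (iO a),
          show s (iO a) = iO a from DFunLike.congr_fun hsO a]
      exact AlgHom.ext fun a => DFunLike.congr_fun h1 a
    exact hcoch (act g : C →ₐ[A] C) s sF hsC hsF (by rw [mapPt_mapPt, hsK]) h u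
  -- the value of t in the local ring
  obtain ⟨w, hw⟩ := hCd _ hN
  have hu1 : IsUnit (1 + algebraMap A W π * w ^ 2) := by
    by_contra hu
    by_cases h0 : 1 + algebraMap A W π * w ^ 2 = 0
    · exact hWu (IsUnit.of_mul_eq_one (-w ^ 2) (by linear_combination -h0))
    obtain ⟨n, r, hr⟩ := hWsplit _ h0
    cases n with
    | zero => exact hu (by rw [hr, pow_zero, _root_.one_mul]; exact r.isUnit)
    | succ n => exact hWu (IsUnit.of_mul_eq_one (algebraMap A W π ^ n * r - w ^ 2) (by linear_combination -hr))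
  have hiCt : iC tC = algebraMap A W π * hu1.unit := by
    rw [htC, IsUnit.unit_spec, map_add, map_pow, hw, iC.commutes]
    ring
  have htC0 : tC ≠ 0 := fun h => by
    rw [h, map_zero] at hiCt
    exact mul_ne_zero hWne hu1.unit.ne_zero hiCt.symm
  obtain ⟨bL, hbinv, hbW⟩ := exists_norm T' e act φ tC htC0 D (fun g hg => htD g hg) hfix
  letI : Algebra C W := iC.toRingHom.toAlgebra
  haveI : IsScalarTower A C W := IsScalarTower.of_algebraMap_eq fun a => (iC.commutes a).symm
  let ϖ : Fˣ := unifUnit π hWne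
  obtain ⟨z₁, hz₁⟩ := hbW (R := W) iLF jW (by rw [hiLF]; rfl)
    (fun g hg => hCu _ (htnD g hg)) (ϖ * Units.map (jW : W →* F) hu1.unit) (by
      show algebraMap A F π * jW (hu1.unit : W) = iLF (algebraMap C (FractionRing C) tC)
      rw [show iLF (algebraMap C (FractionRing C) tC) = jW (iC tC) from DFunLike.congr_fun hiLF tC, hiCt,
        map_mul, jW.commutes])
  refine ⟨bL, hbinv, fun b hb => ?_⟩
  let iKK : FractionRing A →ₐ[A] K' := IsScalarTower.toAlgHom A (FractionRing A) K'
  let iKL : FractionRing A →ₐ[A] FractionRing C :=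
    IsFractionRing.liftAlgHom (K := FractionRing A) (g := Algebra.ofId A (FractionRing C))
      (show Function.Injective (algebraMap A (FractionRing C)) by
        rw [IsScalarTower.algebraMap_eq A C (FractionRing C)]
        exact (IsFractionRing.injective C _).comp (FaithfulSMul.algebraMap_injective A C))
  have hbF : mapPt T' iK (mapPt T' iKK b) = mapPt T' iLF bL := by
    rw [← hb iKL, mapPt_mapPt, mapPt_mapPt]
    congr 2
    exact IsLocalization.algHom_ext (nonZeroDivisors A) (Subsingleton.elim _ _)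
  have hbW' : mapPt T' iK (mapPt T' iKK b) =
      lam T' e φ (jW.comp iC) ϖ * mapPt T' jW (lam T' e φ iC hu1.unit * z₁) := by
    rw [hbF, hz₁, map_mul, mapPt_lam, show jW.comp (IsScalarTower.toAlgHom A C W) = jW.comp iC from rfl,
      lam_mul T' e, _root_.mul_assoc]
  let d : sp A K' ⟶ T' := x * (mapPt T' iKK b)⁻¹
  have hd : mapPt T' iK d = mapPt T' jW (z₀ * (lam T' e φ iC hu1.unit * z₁)⁻¹) := by
    have hc : ∀ a b : sp A F ⟶ T', a * b = b * a := mul_comm_hom T' e (jW.comp iC)
    rw [show d = x * (mapPt T' iKK b)⁻¹ from rfl, map_mul (mapPt T' iK), map_inv, hbW', hz₀,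
      map_mul (mapPt T' jW) z₀, map_inv]
    rw [_root_.mul_inv_rev, hc (mapPt T' jW (lam T' e φ iC hu1.unit * z₁))⁻¹, _root_.mul_assoc,
      ← _root_.mul_assoc (mapPt T' jW z₀), hc (mapPt T' jW z₀), _root_.mul_assoc, mul_inv_cancel_left]
  obtain ⟨a, ha⟩ := exists_integral T' π iO iK hiK (IsFractionRing.injective O K') hWu hWne hsplitO
    hexh (fun h => hπne (IsFractionRing.injective O K' (by rw [← IsScalarTower.algebraMap_apply, h, map_zero]))) d _ hd
  refine ⟨a, ?_⟩
  rw [ha]
  show x = x * (mapPt T' iKK b)⁻¹ * mapPt T' iKK b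
  rw [inv_mul_cancel_right]

end

section

variable {A : Type u} [CommRing A] [IsDomain A] [IsDiscreteValuationRing A]
variable (v : HeightOneSpectrum A)

/-- The main decomposition. -/
theorem exists_decomp (T' : Over (Spec (CommRingCat.of A))) [GrpObj T'] [IsAffine T'.left]
    {Ω : Type u} [Field Ω] [Algebra (FractionRing A) Ω] [IsGalois (FractionRing A) Ω] [Algebra A Ω]
    [IsScalarTower A (FractionRing A) Ω]
    (C : Subalgebra A Ω) (hC : IsFU C) (hst : ∀ (τ : Ω ≃ₐ[FractionRing A] Ω) (c : Ω), c ∈ C → τ c ∈ C)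
    (hfin : Finite (C →ₐ[A] Ω))
    {M : Type} [AddCommGroup M]
    (e : Grp.mk (Red.bc (Spec.map (CommRingCat.ofHom (algebraMap A C))) T') ≅
      Grp.mk (Red.DS (Spec (CommRingCat.of C)) M))
    (x : sp A (v.adicCompletion (FractionRing A)) ⟶ T') :
    ∃ (a : sp A (v.adicCompletionIntegers (FractionRing A)) ⟶ T') (b : sp A (FractionRing A) ⟶ T'),
      x = mapPt T' (IsScalarTower.toAlgHom A (v.adicCompletionIntegers (FractionRing A))
            (v.adicCompletion (FractionRing A))) a *
          mapPt T' (IsScalarTower.toAlgHom A (FractionRing A) (v.adicCompletion (FractionRing A))) b := by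
  classical
  obtain ⟨π, hπ0, hπm, hnoeth, hdomO, hπu, hπne, hsplitO, hresO, hexh⟩ :=
    exists_uniformizer A v (FractionRing A)
  haveI := hC.1
  haveI := hC.2
  haveI := hfin
  haveI := hnoeth
  have hAΩ : Function.Injective (algebraMap A Ω) := by
    rw [IsScalarTower.algebraMap_eq A (FractionRing A) Ω]
    exact (algebraMap (FractionRing A) Ω).injective.comp (IsFractionRing.injective A (FractionRing A))
  haveI : FaithfulSMul A C := (faithfulSMul_iff_algebraMap_injective A C).2 fun a a' h =>
    hAΩ (congrArg Subtype.val h)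
  haveI : Module.IsTorsionFree A C := Module.IsTorsionFree.of_smul_eq_zero fun a c h => by
    rw [Algebra.smul_def, mul_eq_zero] at h
    exact h.imp_left fun h0 => FaithfulSMul.algebraMap_injective A C (h0.trans (map_zero _).symm)
  haveI : Module.Free A C := Module.free_of_finite_type_torsion_free'
  haveI : IsNoetherianRing C := IsNoetherianRing.of_finite A C
  haveI : IsFractionRing (v.adicCompletionIntegers (FractionRing A)) (v.adicCompletion (FractionRing A)) :=
    inferInstanceAs (IsFractionRing (v.adicCompletionIntegers (FractionRing A)) _)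
  obtain ⟨p, hp⟩ := Ideal.exists_maximal C
  let res : (Ω ≃ₐ[FractionRing A] Ω) →* (C ≃ₐ[A] C) :=
    { toFun := fun τ =>
        { toFun := fun c => ⟨τ c, hst τ c c.2⟩
          invFun := fun c => ⟨τ.symm c, hst τ.symm c c.2⟩
          left_inv := fun c => Subtype.ext (τ.symm_apply_apply _)
          right_inv := fun c => Subtype.ext (τ.apply_symm_apply _)
          map_mul' := fun a b => Subtype.ext (map_mul τ (a : Ω) b)
          map_add' := fun a b => Subtype.ext (map_add τ (a : Ω) b)
          commutes' := fun a => Subtype.ext ((τ.toAlgHom.restrictScalars A).commutes a) }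
      map_one' := rfl
      map_mul' := fun _ _ => rfl }
  haveI : Finite res.range := Finite.of_injective
    (fun g : res.range => C.val.comp ((g : C ≃ₐ[A] C) : C →ₐ[A] C)) fun g g' h =>
    Subtype.ext (AlgEquiv.ext fun c => Subtype.ext (DFunLike.congr_fun h c))
  obtain ⟨bL, hinv, hb⟩ := exists_decomp_abs T' e res.range.subtype hπm hπu hπne
    (FaithfulSMul.algebraMap_injective A _) hsplitO hresO
    (fun y => by
      obtain ⟨n, hn⟩ := hexh y
      exact ⟨n, ⟨_, hn⟩, rfl⟩) p x
  obtain ⟨b, hb'⟩ := exists_descend C T' bL fun τ =>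
    ⟨res τ, actL res.range.subtype ⟨res τ, ⟨τ, rfl⟩⟩, fun c => rfl, fun c => actL_algebraMap _ _ c, hinv _⟩
  obtain ⟨a, ha⟩ := hb b hb'
  exact ⟨a, b, ha⟩

end

end Groth.Agent.GITLib.TorusApprox

end
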