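import Groth.Agent.GITLib.TorusApprox.Cochar
import Groth.Agent.GITLib.TorusApprox.LocalRing
import Mathlib.RingTheory.Localization.FractionRing

/-!
# The cocharacter of a point, a fixed uniformiser, integrality
-/

set_option autoImplicit false
set_option linter.style.haveILetI false
set_option backward.isDefEq.respectTransparency false
set_option synthInstance.maxHeartbeats 400000

universe u

open CategoryTheory MonoidalCategory CartesianMonoidalCategory MonObj GrpObj AlgebraicGeometry Limits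
open IsLocalRing

noncomputable section

namespace Groth.Agent.GITLib.TorusApprox

variable {W : Type u} [CommRing W] [IsDomain W] {p : W}

theorem val_exists (hp0 : p ≠ 0) (hsplit : ∀ w : W, w ≠ 0 → ∃ (n : ℕ) (x : Wˣ), w = p ^ n * x)
    (f : FractionRing W) (hf : f ≠ 0) :
    ∃ (n : ℤ) (w : Wˣ), f = algebraMap W (FractionRing W) p ^ n * algebraMap W (FractionRing W) w := by
  obtain ⟨w₁, w₂, hw₂, rfl⟩ := IsFractionRing.div_surjective W f
  have h2 : w₂ ≠ 0 := nonZeroDivisors.ne_zero hw₂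
  have h1 : w₁ ≠ 0 := fun h => hf (by rw [h, map_zero, zero_div])
  obtain ⟨n₁, u₁, rfl⟩ := hsplit w₁ h1
  obtain ⟨n₂, u₂, rfl⟩ := hsplit w₂ h2
  have hP : algebraMap W (FractionRing W) p ≠ 0 := fun h =>
    hp0 (IsFractionRing.injective W (FractionRing W) (h.trans (map_zero _).symm))
  refine ⟨(n₁ : ℤ) - n₂, u₁ * u₂⁻¹, ?_⟩
  rw [zpow_sub₀ hP, zpow_natCast, zpow_natCast, Units.val_mul, map_mul, map_mul, map_mul, map_pow, map_pow,
    map_units_inv]
  field_simp

theorem val_unique (hpu : ¬ IsUnit p) (hp0 : p ≠ 0) {n n' : ℤ} {w w' : Wˣ}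
    (h : algebraMap W (FractionRing W) p ^ n * algebraMap W (FractionRing W) w =
      algebraMap W (FractionRing W) p ^ n' * algebraMap W (FractionRing W) w') : n = n' := by
  let P := algebraMap W (FractionRing W) p
  have hP : P ≠ 0 := fun h0 => hp0 (IsFractionRing.injective W (FractionRing W) (h0.trans (map_zero _).symm))
  have key : ∀ (m : ℕ) (a b : Wˣ), P ^ m * algebraMap W (FractionRing W) a = algebraMap W (FractionRing W) b → m = 0 := by
    intro m a b hm
    by_contra hm0
    rw [← map_pow, ← map_mul] at hm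
    have h1 : IsUnit (p ^ m * (a : W)) := IsFractionRing.injective W (FractionRing W) hm ▸ b.isUnit
    exact hpu ((isUnit_pow_iff hm0).1 (isUnit_of_mul_isUnit_left h1))
  rcases le_total n n' with hle | hle
  · obtain ⟨m, rfl⟩ := Int.le.dest hle
    change P ^ n * _ = P ^ (n + (m : ℤ)) * _ at h
    rw [zpow_add₀ hP, _root_.mul_assoc, zpow_natCast] at h
    have := key m w' w (mul_left_cancel₀ (zpow_ne_zero n hP) h).symm
    omega
  · obtain ⟨m, rfl⟩ := Int.le.dest hle
    change P ^ (n' + (m : ℤ)) * _ = P ^ n' * _ at h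
    rw [zpow_add₀ hP, _root_.mul_assoc, zpow_natCast] at h
    have := key m w w' (mul_left_cancel₀ (zpow_ne_zero n' hP) h)
    omega

section Cochar

variable {A C : Type u} [CommRing A] [CommRing C] [IsDomain C] [IsNoetherianRing C] [Algebra A C] [Algebra A W]
variable (T' : Over (Spec (CommRingCat.of A))) [GrpObj T'] {M : Type} [AddCommGroup M]
variable (e : Grp.mk (Red.bc (Spec.map (CommRingCat.ofHom (algebraMap A C))) T') ≅
  Grp.mk (Red.DS (Spec (CommRingCat.of C)) M))

/-- The canonical unit given by the uniformiser. -/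
def unifUnit (π : A) (h0 : algebraMap A W π ≠ 0) : (FractionRing W)ˣ :=
  Units.mk0 (algebraMap A (FractionRing W) π) (by
    rw [IsScalarTower.algebraMap_apply A W (FractionRing W)]
    exact fun h => h0 (IsFractionRing.injective W _ (h.trans (map_zero _).symm)))

theorem exists_cochar (π : A) (iC : C →ₐ[A] W) (hu : ¬ IsUnit (algebraMap A W π)) (h0 : algebraMap A W π ≠ 0)
    (hsplit : ∀ w : W, w ≠ 0 → ∃ (n : ℕ) (x : Wˣ), w = algebraMap A W π ^ n * x)
    (y : sp A (FractionRing W) ⟶ T') :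
    ∃ φ : M →+ ℤ,
      (∃ z₀ : sp A W ⟶ T', y = lam T' e φ ((IsScalarTower.toAlgHom A W _).comp iC) (unifUnit π h0) *
        mapPt T' (IsScalarTower.toAlgHom A W (FractionRing W)) z₀) ∧
      ∀ (σ : C →ₐ[A] C) (s : W →ₐ[A] W) (sF : FractionRing W →ₐ[A] FractionRing W),
        s.comp iC = iC.comp σ →
        sF.comp (IsScalarTower.toAlgHom A W _) = (IsScalarTower.toAlgHom A W _).comp s →
        mapPt T' sF y = y →
        ∀ {R : Type u} [CommRing R] [Algebra A R] (g : C →ₐ[A] R) (u : Rˣ),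
          lam T' e φ (g.comp σ) u = lam T' e φ g u := by
  classical
  let F := FractionRing W
  let jW : W →ₐ[A] F := IsScalarTower.toAlgHom A W F
  letI : Algebra C F := (jW.comp iC).toRingHom.toAlgebra
  haveI : IsScalarTower A C F := IsScalarTower.of_algebraMap_eq fun a => ((jW.comp iC).commutes a).symm
  letI : Algebra C W := iC.toRingHom.toAlgebra
  haveI : IsScalarTower A C W := IsScalarTower.of_algebraMap_eq fun a => (iC.commutes a).symm
  let jWC : W →ₐ[C] F := { jW with commutes' := fun c => rfl }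
  let ϖ : Fˣ := unifUnit π h0
  have hϖ : ∀ n : ℤ, ((ϖ ^ n : Fˣ) : F) = algebraMap W F (algebraMap A W π) ^ n := fun n => by
    rw [Units.val_zpow_eq_zpow_val]
    exact congrArg (· ^ n) (IsScalarTower.algebraMap_apply A W F π)
  obtain ⟨t, ht⟩ := chPt_surjective T' e (R := F) y
  have htne : ∀ m : Multiplicative M, t m ≠ 0 := fun m h => by
    have := map_mul t m m⁻¹
    rw [mul_inv_cancel, map_one, h, zero_mul] at this
    exact one_ne_zero this
  choose φ₀ w₀ hw₀ using fun m : M => val_exists h0 hsplit _ (htne (Multiplicative.ofAdd m))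
  have hφadd : ∀ m n, φ₀ (m + n) = φ₀ m + φ₀ n := fun m n => val_unique hu h0 (w := w₀ (m + n)) (w' := w₀ m * w₀ n) (by
    rw [← hw₀, ofAdd_add, map_mul, hw₀, hw₀, ← hϖ, ← hϖ, ← hϖ, zpow_add, Units.val_mul, Units.val_mul, map_mul]
    ring)
  have hwm : ∀ m n, w₀ (m + n) = w₀ m * w₀ n := fun m n => by
    apply Units.ext
    apply IsFractionRing.injective W F
    have h := hw₀ (m + n)
    rw [ofAdd_add, map_mul, hw₀, hw₀, hφadd, ← hϖ, ← hϖ, ← hϖ, zpow_add, Units.val_mul] at h
    rw [Units.val_mul, map_mul]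
    exact mul_left_cancel₀ (mul_ne_zero (ϖ ^ φ₀ m).ne_zero (ϖ ^ φ₀ n).ne_zero) (by linear_combination -h)
  let φ : M →+ ℤ := AddMonoidHom.mk' φ₀ hφadd
  let powHom : (M →+ ℤ) → (Multiplicative M →* F) := fun ψ =>
    { toFun := fun m => ((ϖ ^ ψ m.toAdd : Fˣ) : F)
      map_one' := by simp
      map_mul' := fun a b => by rw [toAdd_mul, map_add, zpow_add, Units.val_mul] }
  have hlam : ∀ ψ : M →+ ℤ, lam T' e ψ (jW.comp iC) ϖ = chPt T' e (powHom ψ) := fun ψ =>
    lam_algebra T' e ψ ϖ
  let wHom : Multiplicative M →* W :=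
    { toFun := fun m => (w₀ m.toAdd : W)
      map_one' := by
        have h := hwm 0 0
        rw [add_zero, left_eq_mul] at h
        simp [h]
      map_mul' := fun a b => by rw [toAdd_mul, hwm, Units.val_mul] }
  let z₀ : sp A W ⟶ T' := chPt T' e wHom
  have h2 : mapPt T' jW z₀ = chPt T' e (jWC.toRingHom.toMonoidHom.comp wHom) := (chPt_comp T' e jWC wHom).symm
  have hz₀ : y = lam T' e φ (jW.comp iC) ϖ * mapPt T' jW z₀ := by
    rw [hlam, h2, ← map_mul, ← ht]
    congr 1
    exact MonoidHom.ext fun m => (hw₀ m.toAdd).trans (by rw [← hϖ]; rfl)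
  refine ⟨φ, ⟨z₀, hz₀⟩, fun σ s sF hsC hsF hsy => ?_⟩
  obtain ⟨φ', hφ'⟩ := exists_conj T' e φ σ
  suffices hφe : φ' = φ by
    intro R _ _ g u
    rw [hφ', hφe]
  have h := congrArg (mapPt T' sF) hz₀
  rw [hsy, map_mul, mapPt_lam, mapPt_mapPt, hsF] at h
  have hu' : Units.map (sF : F →* F) ϖ = ϖ := Units.ext (sF.commutes π)
  have hg : sF.comp (jW.comp iC) = (jW.comp iC).comp σ := by
    rw [← AlgHom.comp_assoc, hsF, AlgHom.comp_assoc, hsC, AlgHom.comp_assoc]
  rw [hu', hg, hφ', ← mapPt_mapPt T' s jW, hz₀] at h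
  obtain ⟨t₁, ht₁⟩ := chPt_surjective T' e (R := W) (mapPt T' s z₀)
  have h3 : mapPt T' jW (chPt T' e t₁) = chPt T' e (jWC.toRingHom.toMonoidHom.comp t₁) := (chPt_comp T' e jWC t₁).symm
  rw [← ht₁, h2, h3, hlam, hlam, ← map_mul, ← map_mul] at h
  refine AddMonoidHom.ext fun m => ?_
  have h4 := DFunLike.congr_fun (chPt_injective T' e h) (Multiplicative.ofAdd m)
  have hu1 : IsUnit (t₁ (Multiplicative.ofAdd m)) := IsUnit.of_mul_eq_one (t₁ (Multiplicative.ofAdd (-m)))
    (by rw [← map_mul, ← ofAdd_add, add_neg_cancel, ofAdd_zero, map_one])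
  refine (val_unique hu h0 (n := φ m) (n' := φ' m) (w := w₀ m) (w' := hu1.unit) ?_).symm
  rw [← hϖ, ← hϖ]
  exact h4

end Cochar

section Unif

variable {A : Type u} [CommRing A] [IsLocalRing A] {π : A}
variable (C : Type u) [CommRing C] [IsDomain C] [Algebra A C] [Module.Finite A C] [Algebra.FormallyUnramified A C]
variable {G : Type u} [Group G] [Finite G] (act : G →* (C ≃ₐ[A] C))

/-- A uniformiser at a maximal ideal fixed by its stabiliser and a unit at its other conjugates. -/
theorem exists_fixed_unif (hπ : maximalIdeal A = Ideal.span {π}) (p : Ideal C) [p.IsMaximal] :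
    ∃ N t : C, t = (1 - N) ^ 2 + algebraMap A C π ∧ 1 - N ∈ p ∧
      (∀ g : G, (∀ c, act g c ∈ p ↔ c ∈ p) → act g t = t) ∧
      ∀ g : G, ¬ (∀ c, act g c ∈ p ↔ c ∈ p) → act g t ∉ p := by
  classical
  let D : Subgroup G :=
    { carrier := {g | ∀ c, act g c ∈ p ↔ c ∈ p}
      one_mem' := fun c => by rw [map_one]; exact Iff.rfl
      mul_mem' := fun {a b} ha hb c => by rw [map_mul]; exact (ha (act b c)).trans (hb c)
      inv_mem' := fun {a} ha c => by
        have h := ha (act a⁻¹ c)
        rw [← AlgEquiv.mul_apply, ← map_mul, mul_inv_cancel, map_one] at h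
        exact h.symm }
  letI := Fintype.ofFinite D
  obtain ⟨s₀, hs₀, hs₀'⟩ := exists_mem_others hπ C p
  obtain ⟨ε, hε1, hεq⟩ : ∃ ε : C, ε - 1 ∈ p ∧ ∀ q : Ideal C, q.IsMaximal → q ≠ p → ε ∈ q := by
    obtain ⟨y, i, hi, hyi⟩ := (inferInstance : p.IsMaximal).exists_inv hs₀
    refine ⟨y * s₀, ?_, fun q hq hne => Ideal.mul_mem_left _ _ (hs₀' q hq hne)⟩
    rw [show y * s₀ - 1 = -i by linear_combination hyi]
    exact p.neg_mem hi
  let N : C := ∏ d : D, act d ε
  have hN1 : N - 1 ∈ p := by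
    rw [← Ideal.Quotient.eq_zero_iff_mem, map_sub, map_one, sub_eq_zero, map_prod]
    refine Finset.prod_eq_one fun d _ => ?_
    have h := (d.2 (ε - 1)).2 hε1
    rw [map_sub, map_one, ← Ideal.Quotient.eq_zero_iff_mem, map_sub, map_one, sub_eq_zero] at h
    exact h
  refine ⟨N, _, rfl, by rw [← neg_sub]; exact p.neg_mem hN1, fun g hg => ?_, fun g hg hmem => ?_⟩
  · have hN : act g N = N := by
      rw [map_prod]
      refine Fintype.prod_equiv (Equiv.mulLeft (⟨g, hg⟩ : D)) _ _ fun d => ?_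
      rw [Equiv.coe_mulLeft, Subgroup.coe_mul, map_mul]
      rfl
    rw [map_add, map_pow, map_sub, map_one, hN, AlgEquiv.commutes]
  · let q : Ideal C := p.comap (act g : C →+* C)
    have hqm : q.IsMaximal := Ideal.comap_isMaximal_of_surjective _ (act g).surjective
    have hne : q ≠ p := fun h => hg fun c => SetLike.ext_iff.1 h c
    have hN' : N ∈ q := Ideal.prod_mem _ (Finset.mem_univ (1 : D)) (by
      rw [OneMemClass.coe_one, map_one]
      exact hεq q hqm hne)
    have htq : (1 - N) ^ 2 + algebraMap A C π ∈ q := hmem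
    have h1 : (1 - N) ^ 2 ∈ q := by simpa using q.sub_mem htq (mem_of_maximal hπ C q)
    have h2 : 1 - N ∈ q := hqm.isPrime.mem_of_pow_mem 2 h1
    exact hqm.ne_top ((Ideal.eq_top_iff_one _).2 (by simpa using q.add_mem h2 hN'))

end Unif

section Integral

variable {A : Type u} [CommRing A] [Algebra A W] {O K' : Type u} [CommRing O] [Field K'] [Algebra A O] [Algebra A K']
  [Algebra O K'] [IsScalarTower A O K']
variable (T' : Over (Spec (CommRingCat.of A))) [GrpObj T'] [IsAffine T'.left]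

/-- A point of the fraction field whose image is integral is integral. -/
theorem exists_integral (π : A) (iO : O →ₐ[A] W) (iK : K' →ₐ[A] FractionRing W)
    (hiK : ∀ a : O, iK (algebraMap O K' a) = algebraMap W (FractionRing W) (iO a))
    (hinj : Function.Injective (algebraMap O K'))
    (hu : ¬ IsUnit (algebraMap A W π)) (h0 : algebraMap A W π ≠ 0)
    (hsplit : ∀ a : O, a ≠ 0 → ∃ (n : ℕ) (w : Oˣ), a = algebraMap A O π ^ n * w)
    (hexh : ∀ x : K', ∃ (n : ℕ) (o : O), x * algebraMap A K' π ^ n = algebraMap O K' o)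
    (hne : algebraMap A K' π ≠ 0)
    (d : sp A K' ⟶ T') (z : sp A W ⟶ T')
    (hd : mapPt T' iK d = mapPt T' (IsScalarTower.toAlgHom A W (FractionRing W)) z) :
    ∃ a : sp A O ⟶ T', mapPt T' (IsScalarTower.toAlgHom A O K') a = d := by
  refine exists_mapPt_eq T' (IsScalarTower.toAlgHom A O K') hinj d fun f => ?_
  have hk : iK (coord T' d f) = algebraMap W (FractionRing W) (coord T' z f) := by
    rw [← coord_mapPt, hd, coord_mapPt]
    rfl
  obtain ⟨n, o, hn⟩ := hexh (coord T' d f)
  have ho : iO o = algebraMap A W π ^ n * coord T' z f := by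
    apply IsFractionRing.injective W (FractionRing W)
    rw [← hiK, ← hn, map_mul, map_mul, map_pow, map_pow, iK.commutes, hk, ← IsScalarTower.algebraMap_apply A W,
      _root_.mul_comm]
  have hO : algebraMap A O π ^ n ∣ o := by
    by_cases ho0 : o = 0
    · exact ⟨0, by rw [ho0, mul_zero]⟩
    obtain ⟨m, u, hmu⟩ := hsplit o ho0
    rw [hmu]
    by_cases hle : n ≤ m
    · exact (pow_dvd_pow _ hle).mul_right _
    exfalso
    rw [hmu, map_mul, map_pow, iO.commutes] at ho
    obtain ⟨j, rfl⟩ : ∃ j, n = m + (j + 1) := ⟨n - m - 1, by omega⟩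
    rw [pow_add, _root_.mul_assoc] at ho
    have h1 : IsUnit (algebraMap A W π ^ (j + 1) * coord T' z f) :=
      mul_left_cancel₀ (pow_ne_zero m h0) ho ▸ u.isUnit.map iO
    exact hu ((isUnit_pow_iff (Nat.succ_ne_zero j)).1 (isUnit_of_mul_isUnit_left h1))
  obtain ⟨o', ho'⟩ := hO
  refine ⟨o', ?_⟩
  apply mul_right_cancel₀ (pow_ne_zero n hne)
  show algebraMap O K' o' * _ = _
  rw [hn, ho', map_mul, map_pow, ← IsScalarTower.algebraMap_apply A O K', _root_.mul_comm]

end Integral

end Groth.Agent.GITLib.TorusApprox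

end
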