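import Groth.Agent.DiagRig.Split
import Mathlib.RingTheory.TensorProduct.Basic

/-!
# Points of a group scheme over an affine base with values in algebras
-/

set_option autoImplicit false
set_option linter.style.haveILetI false
set_option backward.isDefEq.respectTransparency false

universe u

open CategoryTheory MonoidalCategory CartesianMonoidalCategory MonObj GrpObj AlgebraicGeometry Limits

noncomputable section

namespace Groth.Agent.GITLib.TorusApprox

variable {A : Type u} [CommRing A]

/-- The spectrum of an algebra over the base. -/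
abbrev sp (A R : Type u) [CommRing A] [CommRing R] [Algebra A R] : Over (Spec (CommRingCat.of A)) :=
  Over.mk (Spec.map (CommRingCat.ofHom (algebraMap A R)))

/-- The morphism of spectra of an algebra map. -/
def spMap {R R' : Type u} [CommRing R] [Algebra A R] [CommRing R'] [Algebra A R'] (f : R →ₐ[A] R') :
    sp A R' ⟶ sp A R :=
  Over.homMk (Spec.map (CommRingCat.ofHom f.toRingHom)) (by
    show Spec.map _ ≫ Spec.map _ = Spec.map _
    rw [← Spec.map_comp, ← CommRingCat.ofHom_comp]
    congr 2
    exact f.comp_algebraMap)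

variable {R R' R'' : Type u} [CommRing R] [Algebra A R] [CommRing R'] [Algebra A R'] [CommRing R''] [Algebra A R'']

theorem spMap_id : spMap (AlgHom.id A R) = 𝟙 (sp A R) := by
  apply Over.OverMorphism.ext
  exact Spec.map_id _

theorem spMap_comp (f : R →ₐ[A] R') (g : R' →ₐ[A] R'') : spMap g ≫ spMap f = spMap (g.comp f) := by
  apply Over.OverMorphism.ext
  exact (Spec.map_comp _ _).symm

variable (T : Over (Spec (CommRingCat.of A))) [GrpObj T]

/-- Functoriality of the points. -/
def mapPt (f : R →ₐ[A] R') : (sp A R ⟶ T) →* (sp A R' ⟶ T) where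
  toFun x := spMap f ≫ x
  map_one' := MonObj.comp_one _
  map_mul' x y := MonObj.comp_mul _ x y

theorem mapPt_apply (f : R →ₐ[A] R') (x : sp A R ⟶ T) : mapPt T f x = spMap f ≫ x := rfl

theorem mapPt_mapPt (f : R →ₐ[A] R') (g : R' →ₐ[A] R'') (x : sp A R ⟶ T) :
    mapPt T g (mapPt T f x) = mapPt T (g.comp f) x := by
  rw [mapPt_apply, mapPt_apply, mapPt_apply, ← Category.assoc, spMap_comp]

omit [GrpObj T] in
theorem spMap_comp_injective [IsAffine T.left] (f : R →ₐ[A] R') (hf : Function.Injective f) {x y : sp A R ⟶ T}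
    (h : spMap f ≫ x = spMap f ≫ y) : x = y := by
  apply Over.OverMorphism.ext
  have h' := congrArg CommaMorphism.left h
  simp only [Over.comp_left] at h'
  rw [← cancel_mono T.left.isoSpec.hom]
  have h2 := congrArg (fun z => z ≫ T.left.isoSpec.hom) h'
  simp only [Category.assoc] at h2
  rw [← Spec.map_preimage (x.left ≫ T.left.isoSpec.hom), ← Spec.map_preimage (y.left ≫ T.left.isoSpec.hom)] at h2 ⊢
  change Spec.map _ ≫ Spec.map _ = Spec.map _ ≫ Spec.map _ at h2
  rw [← Spec.map_comp, ← Spec.map_comp] at h2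
  have h3 := Spec.map_injective h2
  congr 1
  ext a
  exact hf (DFunLike.congr_fun (congrArg CommRingCat.Hom.hom h3) a)

theorem mapPt_injective [IsAffine T.left] (f : R →ₐ[A] R') (hf : Function.Injective f) :
    Function.Injective (mapPt T f) := fun _ _ h => spMap_comp_injective T f hf h

/-- The functions of a point of an affine scheme. -/
def coord [IsAffine T.left] (x : sp A R ⟶ T) : Γ(T.left, ⊤) →+* R :=
  (Spec.preimage (x.left ≫ T.left.isoSpec.hom)).hom

theorem coord_mapPt [IsAffine T.left] (f : R →ₐ[A] R') (x : sp A R ⟶ T) (a : Γ(T.left, ⊤)) :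
    coord T (mapPt T f x) a = f (coord T x a) := by
  have : Spec.preimage ((mapPt T f x).left ≫ T.left.isoSpec.hom) =
      Spec.preimage (x.left ≫ T.left.isoSpec.hom) ≫ CommRingCat.ofHom f.toRingHom := by
    apply Spec.map_injective
    rw [Spec.map_comp, Spec.map_preimage, Spec.map_preimage]
    exact Category.assoc _ _ _
  show (Spec.preimage _).hom a = _
  rw [this]
  rfl

/-- A point all of whose functions come from a subalgebra comes from a point of the subalgebra. -/
theorem exists_mapPt_eq [IsAffine T.left] (f : R →ₐ[A] R') (hf : Function.Injective f) (y : sp A R' ⟶ T)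
    (h : ∀ a, coord T y a ∈ Set.range f) : ∃ x : sp A R ⟶ T, mapPt T f x = y := by
  choose g hg using h
  let φ : Γ(T.left, ⊤) →+* R :=
    { toFun := g
      map_one' := hf (by rw [hg, map_one, map_one])
      map_mul' := fun a b => hf (by rw [hg, map_mul, map_mul, hg, hg])
      map_zero' := hf (by rw [hg, map_zero, map_zero])
      map_add' := fun a b => hf (by rw [hg, map_add, map_add, hg, hg]) }
  have hy : Spec.preimage (y.left ≫ T.left.isoSpec.hom) =
      CommRingCat.ofHom φ ≫ CommRingCat.ofHom f.toRingHom := by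
    ext a
    exact (hg a).symm
  have hy' : y.left = Spec.map (CommRingCat.ofHom f.toRingHom) ≫ Spec.map (CommRingCat.ofHom φ) ≫ T.left.isoSpec.inv := by
    rw [← Category.assoc, ← Spec.map_comp, ← hy, Spec.map_preimage, Category.assoc, Iso.hom_inv_id, Category.comp_id]
  have hw : (Spec.map (CommRingCat.ofHom φ) ≫ T.left.isoSpec.inv) ≫ T.hom = (sp A R).hom := by
    have h1 := Over.w y
    rw [hy', Category.assoc] at h1
    have hh : (sp A R').hom = Spec.map (CommRingCat.ofHom f.toRingHom) ≫ (sp A R).hom := (Over.w (spMap f)).symm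
    rw [hh] at h1
    rw [← Spec.map_preimage ((Spec.map (CommRingCat.ofHom φ) ≫ T.left.isoSpec.inv) ≫ T.hom)] at h1 ⊢
    change Spec.map _ ≫ Spec.map _ = Spec.map _ ≫ Spec.map _ at h1
    show Spec.map _ = Spec.map _
    rw [← Spec.map_comp, ← Spec.map_comp] at h1
    have h3 := Spec.map_injective h1
    congr 1
    ext a
    exact hf (DFunLike.congr_fun (congrArg CommRingCat.Hom.hom h3) a)
  exact ⟨Over.homMk _ hw, Over.OverMorphism.ext hy'.symm⟩

/-! ### Character description over a splitting algebra -/

section Split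

variable {C : Type u} [CommRing C] [Algebra A C] {M : Type} [AddCommGroup M]
variable (e : Grp.mk (Red.bc (Spec.map (CommRingCat.ofHom (algebraMap A C))) T) ≅
  Grp.mk (Red.DS (Spec (CommRingCat.of C)) M))

/-- The spectrum of a `C`-algebra over the base is that over `C` pushed forward. -/
def downIso (R : Type u) [CommRing R] [Algebra A R] [Algebra C R] [IsScalarTower A C R] :
    sp A R ≅ (Over.map (Spec.map (CommRingCat.ofHom (algebraMap A C)))).obj (sp C R) :=
  Over.isoMk (Iso.refl _) (by
    show 𝟙 _ ≫ Spec.map _ ≫ Spec.map _ = Spec.map _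
    rw [Category.id_comp, ← Spec.map_comp, ← CommRingCat.ofHom_comp, ← IsScalarTower.algebraMap_eq])

section

variable [Algebra C R] [IsScalarTower A C R] [Algebra C R'] [IsScalarTower A C R']

/-- The point given by a character map. -/
def chPt : (Multiplicative M →* R) →* (sp A R ⟶ T) where
  toFun t := (downIso (A := A) (C := C) R).hom ≫ DiagRig.σ _ e (Y := sp C R)
    ((Scheme.ΓSpecIso (CommRingCat.of R)).inv.hom.toMonoidHom.comp t)
  map_one' := by
    rw [MonoidHom.comp_one, DiagRig.σ_one, MonObj.comp_one]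
  map_mul' s t := by
    rw [MonoidHom.comp_mul, DiagRig.σ_mul, MonObj.comp_mul]

theorem chPt_surjective : Function.Surjective (chPt T e (R := R)) := fun x => by
  obtain ⟨t, ht⟩ := DiagRig.σ_surjective (Spec.map (CommRingCat.ofHom (algebraMap A C))) e
    (Y := sp C R) ((downIso (A := A) (C := C) R).inv ≫ x)
  refine ⟨(Scheme.ΓSpecIso (CommRingCat.of R)).hom.hom.toMonoidHom.comp t, ?_⟩
  show (downIso (A := A) (C := C) R).hom ≫ DiagRig.σ _ e _ = x
  rw [← MonoidHom.comp_assoc]
  have : ((Scheme.ΓSpecIso (CommRingCat.of R)).inv.hom.toMonoidHom.comp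
      (Scheme.ΓSpecIso (CommRingCat.of R)).hom.hom.toMonoidHom).comp t = t :=
    MonoidHom.ext fun m => DFunLike.congr_fun
      (congrArg CommRingCat.Hom.hom (Scheme.ΓSpecIso (CommRingCat.of R)).hom_inv_id) (t m)
  rw [this, ht, Iso.hom_inv_id_assoc]

theorem chPt_injective : Function.Injective (chPt T e (R := R)) := fun s t h => by
  have h1 : DiagRig.σ _ e (Y := sp C R) ((Scheme.ΓSpecIso (CommRingCat.of R)).inv.hom.toMonoidHom.comp s) =
      DiagRig.σ _ e ((Scheme.ΓSpecIso (CommRingCat.of R)).inv.hom.toMonoidHom.comp t) :=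
    (cancel_epi (downIso (A := A) (C := C) R).hom).1 h
  have h2 := congrArg (DiagRig.bcUn (Spec.map (CommRingCat.ofHom (algebraMap A C)))) h1
  simp only [DiagRig.σ, DiagRig.bcUn_bcTr] at h2
  have h3 := congrArg (· ≫ e.hom.hom.hom) h2
  have hi : e.inv.hom.hom ≫ e.hom.hom.hom = 𝟙 _ := ((Grp.forget _).mapIso e).inv_hom_id
  simp only [Category.assoc, hi, Category.comp_id] at h3
  refine MonoidHom.ext fun m => ?_
  have h4 := congrArg (fun z => Groth.Agent.RedPts.dFn z m.toAdd) h3
  simp only [DiagRig.dFn_dPt, ofAdd_toAdd] at h4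
  exact (Scheme.ΓSpecIso (CommRingCat.of R)).commRingCatIsoToRingEquiv.symm.injective h4

theorem chPt_comp (f : R →ₐ[C] R') (t : Multiplicative M →* R) :
    chPt T e (f.toRingHom.toMonoidHom.comp t) = mapPt T (f.restrictScalars A) (chPt T e t) := by
  show _ = spMap (f.restrictScalars A) ≫ _ ≫ _
  have hd : spMap (f.restrictScalars A) ≫ (downIso (A := A) (C := C) R).hom =
      (downIso (A := A) (C := C) R').hom ≫ (Over.map _).map (spMap f) :=
    Over.OverMorphism.ext ((Category.comp_id _).trans (Category.id_comp _).symm)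
  rw [reassoc_of% hd, DiagRig.σ_comp]
  show (downIso (A := A) (C := C) R').hom ≫ _ = _
  congr 2
  refine MonoidHom.ext fun m => ?_
  exact (DFunLike.congr_fun (congrArg CommRingCat.Hom.hom
    (Scheme.ΓSpecIso_inv_naturality (CommRingCat.ofHom f.toRingHom))) (t m))

include e in
/-- The groups of points over a splitting algebra are commutative. -/
theorem mul_comm_split (x y : sp A R ⟶ T) : x * y = y * x := by
  obtain ⟨s, rfl⟩ := chPt_surjective T e (R := R) x
  obtain ⟨t, rfl⟩ := chPt_surjective T e (R := R) y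
  rw [← map_mul, ← map_mul, _root_.mul_comm]

end

end Split

end Groth.Agent.GITLib.TorusApprox

end
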