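import Groth.Agent.GITLib.TorusApprox.RetractLift
import Mathlib.FieldTheory.LinearDisjoint
import Mathlib.FieldTheory.IsAlgClosed.AlgebraicClosure
import Mathlib.LinearAlgebra.TensorProduct.RightExactness

/-!
# Norms from extensions of finite fields
-/

set_option autoImplicit false
set_option linter.style.haveILetI false
set_option backward.isDefEq.respectTransparency false
set_option synthInstance.maxHeartbeats 400000

universe u

open CategoryTheory MonoidalCategory CartesianMonoidalCategory MonObj GrpObj AlgebraicGeometry Limits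
open scoped TensorProduct

noncomputable section

namespace Groth.Agent.GITLib.TorusApprox

/-- An extension of given degree, linearly disjoint from a given one. -/
theorem exists_disjoint_ext (k : Type u) [Field k] [Finite k] (κ : Type u) [Field κ] [Algebra k κ]
    [Module.Finite k κ] (m : ℕ) (hm0 : m ≠ 0) (hm : (Module.finrank k κ).Coprime m) :
    ∃ (L : Type u) (_ : Field L) (_ : Algebra k L), Finite L ∧ Nat.card L = Nat.card k ^ m ∧
      Module.finrank k L = m ∧ IsField (κ ⊗[k] L) := by
  haveI : NeZero m := ⟨hm0⟩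
  obtain ⟨p, hp⟩ := CharP.exists k
  haveI : Fact p.Prime := ⟨CharP.char_is_prime k p⟩
  let Ω := AlgebraicClosure κ
  let emb : FiniteField.Extension k p m →ₐ[k] Ω := IsAlgClosed.lift
  let L := emb.fieldRange
  let e : FiniteField.Extension k p m ≃ₐ[k] L := AlgEquiv.ofInjectiveField emb
  let j : κ →ₐ[k] Ω := IsScalarTower.toAlgHom k κ Ω
  have hL : Module.finrank k L = m := by
    rw [← e.toLinearEquiv.finrank_eq, FiniteField.finrank_extension]
  refine ⟨L, inferInstance, inferInstance, Finite.of_equiv _ e.toEquiv, ?_, hL, ?_⟩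
  · rw [← Nat.card_congr e.toEquiv, FiniteField.natCard_extension]
  · refine IntermediateField.LinearDisjoint.isField_of_isAlgebraic' (fa := j) (fb := L.val) ?_ (Or.inl inferInstance)
    apply IntermediateField.LinearDisjoint.of_finrank_coprime
    rw [IntermediateField.fieldRange_val, hL,
      show Module.finrank k j.fieldRange = Module.finrank k κ from
        (AlgEquiv.ofInjectiveField j).toLinearEquiv.finrank_eq.symm]
    exact hm

variable {k : Type u} [Field k] {L : Type u} [Field L] [Algebra k L] [FiniteDimensional k L] [IsGalois k L]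

/-- Invariant elements of a base change along a Galois extension come from the base. -/
theorem exists_of_invariant {A : Type u} [CommRing A] [Algebra k A] (x : A ⊗[k] L)
    (hx : ∀ σ : L ≃ₐ[k] L, Algebra.TensorProduct.map (AlgHom.id k A) (σ : L →ₐ[k] L) x = x) :
    x ∈ Set.range (Algebra.TensorProduct.includeLeft : A →ₐ[k] A ⊗[k] L) := by
  obtain ⟨θ, hθ⟩ := Algebra.trace_surjective k L 1
  have hsum : ∀ y : A ⊗[k] L, ∑ σ : L ≃ₐ[k] L, Algebra.TensorProduct.map (AlgHom.id k A) (σ : L →ₐ[k] L) y ∈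
      (Algebra.TensorProduct.includeLeft : A →ₐ[k] A ⊗[k] L).range := fun y => by
    induction y using TensorProduct.induction_on with
    | zero => simp
    | add a b ha hb => simp only [map_add, Finset.sum_add_distrib]; exact add_mem ha hb
    | tmul a l =>
      refine ⟨Algebra.trace k L l • a, ?_⟩
      simp only [Algebra.TensorProduct.map_tmul, AlgHom.coe_id, id_eq, ← TensorProduct.tmul_sum]
      show (Algebra.trace k L l • a) ⊗ₜ[k] (1 : L) = a ⊗ₜ[k] ∑ σ : L ≃ₐ[k] L, σ l
      rw [← trace_eq_sum_automorphisms, Algebra.algebraMap_eq_smul_one, TensorProduct.smul_tmul]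
  have h1 : ∑ σ : L ≃ₐ[k] L, ((1 : A) ⊗ₜ[k] σ θ) = 1 := by
    rw [← TensorProduct.tmul_sum, ← trace_eq_sum_automorphisms, hθ, map_one]
    rfl
  have h2 : x = ∑ σ : L ≃ₐ[k] L, Algebra.TensorProduct.map (AlgHom.id k A) (σ : L →ₐ[k] L) (x * ((1 : A) ⊗ₜ[k] θ)) := by
    simp only [map_mul, hx, Algebra.TensorProduct.map_tmul, AlgHom.coe_id, id_eq]
    show x = ∑ σ : L ≃ₐ[k] L, x * ((1 : A) ⊗ₜ[k] σ θ)
    rw [← Finset.mul_sum, h1, _root_.mul_one]
  rw [h2]
  exact hsum _

variable (T : Over (Spec (CommRingCat.of k))) [IsAffine T.left] [GrpObj T]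
  {H : Type u} [CommRing H] [Algebra k H] (p : sp k H ⟶ T)
  (huniv : ∀ {R : Type u} [CommRing R] [Algebra k R] (x : sp k R ⟶ T), ∃! f : H →ₐ[k] R, mapPt T f p = x)
  (D : RetractData (k := k) H)
  (hcomm : ∀ (R : Type u) [CommRing R] [Algebra k R] (x y : sp k R ⟶ T), x * y = y * x)

include huniv hcomm in
/-- A power of a point lifts. -/
theorem exists_pow_lift {A κ : Type u} [CommRing A] [IsLocalRing A] [Algebra k A] [Field κ] [Algebra k κ]
    (q : A →ₐ[k] κ) (hq : Function.Surjective q) (u : sp k κ ⟶ T) (P : MvPolynomial (Fin D.n) κ) (hP0 : P ≠ 0)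
    (hP : ∀ (F : Type u) [Field F] [Algebra k F] [Algebra κ F] [IsScalarTower k κ F] (y : Fin D.n → F),
      MvPolynomial.aeval y P ≠ 0 → ∃ (hy : IsUnit (MvPolynomial.aeval y D.f)) (fz : H →ₐ[k] F),
        mapPt T fz p = mapPt T (IsScalarTower.toAlgHom k κ F) u * mapPt T ((D.evalAt y hy).comp D.β) p ∧
          fz D.g ≠ 0)
    (hfield : IsField (κ ⊗[k] L)) (hbig : ∀ i, P.degreeOf i < Nat.card L) [Finite L] :
    ∃ s : sp k A ⟶ T, mapPt T q s = u ^ Module.finrank k L := by
  classical
  letI instF : Field (κ ⊗[k] L) := hfield.toField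
  let π : A ⊗[k] L →ₐ[k] κ ⊗[k] L := Algebra.TensorProduct.map q (AlgHom.id k L)
  let iA : A →ₐ[k] A ⊗[k] L := Algebra.TensorProduct.includeLeft
  let iκ : κ →ₐ[k] κ ⊗[k] L := Algebra.TensorProduct.includeLeft
  have hπ : Function.Surjective π := Algebra.TensorProduct.map_surjective _ _ hq Function.surjective_id
  have hunit : ∀ a, π a ≠ 0 → IsUnit a := by
    intro a ha
    by_contra hu
    obtain ⟨Q, hQ, haQ⟩ := exists_max_ideal_of_mem_nonunits (show a ∈ nonunits _ from hu)
    haveI := hQ
    have h1 : Q.comap (algebraMap A (A ⊗[k] L)) = IsLocalRing.maximalIdeal A :=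
      IsLocalRing.eq_maximalIdeal (Ideal.isMaximal_comap_of_isIntegral_of_isMaximal Q)
    have h2 : RingHom.ker q = IsLocalRing.maximalIdeal A :=
      IsLocalRing.eq_maximalIdeal (RingHom.ker_isMaximal_of_surjective q.toRingHom hq)
    have h3 : RingHom.ker π ≤ Q := by
      rw [Algebra.TensorProduct.rTensor_ker q hq, h2, Ideal.map_le_iff_le_comap, ← h1]
      exact le_refl _
    have h4 : (RingHom.ker π).IsMaximal := RingHom.ker_isMaximal_of_surjective π.toRingHom hπ
    rw [← h4.eq_of_le hQ.ne_top h3] at haQ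
    exact ha haQ
  have hex : ∃ y : Fin D.n → κ ⊗[k] L, MvPolynomial.aeval y P ≠ 0 := by
    by_contra hne
    push Not at hne
    let r : L → κ ⊗[k] L := fun l => (Algebra.TensorProduct.includeRight : L →ₐ[k] κ ⊗[k] L) l
    have hr : Function.Injective r := Algebra.TensorProduct.includeRight_injective (algebraMap k κ).injective
    letI := Fintype.ofFinite L
    have hcard : (Finset.univ.image r).card = Nat.card L := by
      rw [Finset.card_image_of_injective _ hr, Finset.card_univ, Nat.card_eq_fintype_card]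
    have h0 : MvPolynomial.map (algebraMap κ (κ ⊗[k] L)) P = 0 := by
      refine MvPolynomial.eq_zero_of_eval_zero_at_prod_finset _ (fun _ => Finset.univ.image r) (fun i => ?_) fun y _ => ?_
      · rw [hcard]
        refine lt_of_le_of_lt ?_ (hbig i)
        rw [MvPolynomial.degreeOf_def, MvPolynomial.degreeOf_def]
        exact Multiset.count_le_of_le _ MvPolynomial.degrees_map_le
      · rw [MvPolynomial.eval_map]
        exact hne y
    exact hP0 (MvPolynomial.map_injective _ (algebraMap κ (κ ⊗[k] L)).injective (h0.trans (map_zero _).symm))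
  obtain ⟨s, hs⟩ := lift_of_points T p huniv D u P hP π hπ hunit hex
  letI : CommMonoid (sp k (A ⊗[k] L) ⟶ T) :=
    { (inferInstance : Monoid (sp k (A ⊗[k] L) ⟶ T)) with mul_comm := hcomm _ }
  let σA : (L ≃ₐ[k] L) → (A ⊗[k] L →ₐ[k] A ⊗[k] L) := fun σ =>
    Algebra.TensorProduct.map (AlgHom.id k A) (σ : L →ₐ[k] L)
  let S : sp k (A ⊗[k] L) ⟶ T := ∏ σ : L ≃ₐ[k] L, mapPt T (σA σ) s
  have hinv : ∀ τ : L ≃ₐ[k] L, mapPt T (σA τ) S = S := fun τ => by
    show mapPt T (σA τ) (∏ σ : L ≃ₐ[k] L, mapPt T (σA σ) s) = _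
    rw [map_prod]
    refine Fintype.prod_equiv (Equiv.mulLeft τ) _ _ fun σ => ?_
    rw [mapPt_mapPt]
    congr 2
    exact Algebra.TensorProduct.ext rfl rfl
  have hiA : Function.Injective iA :=
    Algebra.TensorProduct.includeLeft_injective (S := k) (algebraMap k L).injective
  obtain ⟨t, ht⟩ := exists_mapPt_eq T iA hiA S fun a => exists_of_invariant _ fun τ => by
    show σA τ (coord T S a) = coord T S a
    rw [← coord_mapPt, hinv]
  refine ⟨t, mapPt_injective T iκ (Algebra.TensorProduct.includeLeft_injective (S := k) (algebraMap k L).injective) ?_⟩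
  have hs' : ∀ σ : L ≃ₐ[k] L, mapPt T π (mapPt T (σA σ) s) = mapPt T iκ u := fun σ => by
    rw [mapPt_mapPt, show π.comp (σA σ) = (Algebra.TensorProduct.map (AlgHom.id k κ) (σ : L →ₐ[k] L)).comp π from
      Algebra.TensorProduct.ext rfl rfl, ← mapPt_mapPt, hs, mapPt_mapPt]
    congr 2
    refine AlgHom.ext fun c => ?_
    show c ⊗ₜ[k] σ 1 = c ⊗ₜ[k] 1
    rw [map_one]
  rw [map_pow, mapPt_mapPt, show iκ.comp q = π.comp iA from AlgHom.ext fun a => rfl, ← mapPt_mapPt, ht]
  show mapPt T π (∏ σ : L ≃ₐ[k] L, mapPt T (σA σ) s) = _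
  letI : CommMonoid (sp k (κ ⊗[k] L) ⟶ T) :=
    { (inferInstance : Monoid (sp k (κ ⊗[k] L) ⟶ T)) with mul_comm := hcomm _ }
  rw [map_prod (mapPt T π), Finset.prod_congr rfl fun σ _ => hs' σ, Finset.prod_const, Finset.card_univ,
    ← IsGalois.card_aut_eq_finrank k L, Nat.card_eq_fintype_card]

include huniv hcomm D in
omit [FiniteDimensional k L] [IsGalois k L] in
/-- Points of the residue field lift. -/
theorem exists_lift [IsDomain H] {A κ : Type u} [CommRing A] [IsLocalRing A] [Algebra k A] [Field κ] [Algebra k κ]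
    (q : A →ₐ[k] κ) (hq : Function.Surjective q) (u : sp k κ ⟶ T) : ∃ s : sp k A ⟶ T, mapPt T q s = u := by
  classical
  have hunit : ∀ a, q a ≠ 0 → IsUnit a := fun a ha => by
    by_contra hu
    refine ha (?_ : a ∈ RingHom.ker q.toRingHom)
    rw [IsLocalRing.eq_maximalIdeal (RingHom.ker_isMaximal_of_surjective q.toRingHom hq)]
    exact hu
  obtain ⟨P, hP0, hP⟩ := exists_good_poly T p huniv D κ u
  cases finite_or_infinite κ with
  | inr hinf =>
    haveI := hinf
    obtain ⟨s, hs⟩ := lift_of_points T p huniv D u P hP q hq hunit (by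
      by_contra hne
      push Not at hne
      exact hP0 (MvPolynomial.funext fun y => by
        rw [map_zero, ← MvPolynomial.coe_aeval_eq_eval]
        exact hne y))
    exact ⟨s, hs.trans (by rw [show IsScalarTower.toAlgHom k κ κ = AlgHom.id k κ from rfl, mapPt_apply, spMap_id,
      Category.id_comp])⟩
  | inl hfin =>
    haveI := hfin
    haveI : Finite k := Finite.of_injective _ (algebraMap k κ).injective
    let d := Module.finrank k κ
    have hd : 0 < d := Module.finrank_pos
    obtain ⟨B, hB⟩ : ∃ B : ℕ, ∀ i, P.degreeOf i < B :=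
      ⟨(Finset.univ.sup fun i => P.degreeOf i) + 1, fun i => Nat.lt_succ_of_le (Finset.le_sup (f := fun i => P.degreeOf i) (Finset.mem_univ i))⟩
    have key : ∀ m, B ≤ m → d.Coprime m → ∃ s : sp k A ⟶ T, mapPt T q s = u ^ m := by
      intro m hBm hm
      rcases Nat.eq_zero_or_pos m with rfl | hm0
      · exact ⟨1, by rw [map_one, pow_zero]⟩
      obtain ⟨L', iL, iAlg, hfinL, hcard, hrank, hfield⟩ := exists_disjoint_ext k κ m hm0.ne' hm
      haveI : FiniteDimensional k L' := FiniteDimensional.of_finrank_pos (hrank ▸ hm0)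
      obtain ⟨s, hs⟩ := exists_pow_lift T p huniv D hcomm q hq u P hP0 hP hfield fun i =>
        (hB i).trans_le (hBm.trans (hcard ▸ (Nat.lt_pow_self Finite.one_lt_card).le))
      exact ⟨s, hrank ▸ hs⟩
    let m₁ := d * B + 1
    have h1 : d.Coprime m₁ := by
      rw [Nat.coprime_mul_left_add_right]
      exact Nat.coprime_one_right d
    have h2 : d.Coprime (m₁ + d) := Nat.coprime_add_self_right.2 h1
    obtain ⟨s₁, hs₁⟩ := key m₁ ((Nat.le_mul_of_pos_left B hd).trans (Nat.le_succ _)) h1
    obtain ⟨s₂, hs₂⟩ := key (m₁ + d) (((Nat.le_mul_of_pos_left B hd).trans (Nat.le_succ _)).trans (Nat.le_add_right _ _)) h2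
    let R := (mapPt T q).range
    have hud : u ^ d ∈ R := by
      have h := mul_mem (inv_mem (MonoidHom.mem_range.2 ⟨s₁, hs₁⟩ : u ^ m₁ ∈ R)) (MonoidHom.mem_range.2 ⟨s₂, hs₂⟩ : u ^ (m₁ + d) ∈ R)
      rwa [pow_add u m₁ d, inv_mul_cancel_left] at h
    have hu : u ∈ R := by
      have h := mul_mem (inv_mem (pow_mem hud B)) (MonoidHom.mem_range.2 ⟨s₁, hs₁⟩ : u ^ m₁ ∈ R)
      rwa [← pow_mul, pow_succ, inv_mul_cancel_left] at h
    exact hu

end Groth.Agent.GITLib.TorusApprox

end
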