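import Groth.Agent.GITLib.TorusApprox.AffPts
import Mathlib.FieldTheory.Finite.Extension
import Mathlib.Combinatorics.Nullstellensatz
import Mathlib.Algebra.MvPolynomial.Funext
import Mathlib.RingTheory.Trace.Basic
import Mathlib.RingTheory.Flat.Localization

/-!
# Lifting points of a retract rational group over a local algebra
-/

set_option autoImplicit false
set_option linter.style.haveILetI false
set_option backward.isDefEq.respectTransparency false
set_option synthInstance.maxHeartbeats 400000

universe u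

open CategoryTheory MonoidalCategory CartesianMonoidalCategory MonObj GrpObj AlgebraicGeometry Limits
open scoped TensorProduct

noncomputable section

namespace Groth.Agent.GITLib.TorusApprox

variable {k : Type u} [Field k] (T : Over (Spec (CommRingCat.of k))) [IsAffine T.left] [GrpObj T]

/-- The retraction data on functions. -/
structure RetractData (H : Type u) [CommRing H] [Algebra k H] where
  n : ℕ
  f : MvPolynomial (Fin n) k
  g : H
  hf : f ≠ 0
  hg : g ≠ 0
  β : H →ₐ[k] Localization.Away f
  α : Localization.Away f →ₐ[k] Localization.Away g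
  hαβ : α.comp β = IsScalarTower.toAlgHom k H (Localization.Away g)

variable {H : Type u} [CommRing H] [Algebra k H] (p : sp k H ⟶ T)
  (huniv : ∀ {R : Type u} [CommRing R] [Algebra k R] (x : sp k R ⟶ T), ∃! f : H →ₐ[k] R, mapPt T f p = x)

variable (D : RetractData (k := k) H)

/-- The map given by values of the coordinates. -/
def RetractData.evalAt {R : Type u} [CommRing R] [Algebra k R] (y : Fin D.n → R)
    (hy : IsUnit (MvPolynomial.aeval y D.f)) : Localization.Away D.f →ₐ[k] R :=
  IsLocalization.liftAlgHom (M := Submonoid.powers D.f) (f := MvPolynomial.aeval y) (by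
    rintro ⟨_, m, rfl⟩
    rw [map_pow]
    exact hy.pow m)

theorem RetractData.evalAt_X {R : Type u} [CommRing R] [Algebra k R] (y : Fin D.n → R)
    (hy : IsUnit (MvPolynomial.aeval y D.f)) (q : MvPolynomial (Fin D.n) k) :
    D.evalAt y hy (algebraMap _ (Localization.Away D.f) q) = MvPolynomial.aeval y q := by
  rw [RetractData.evalAt]
  exact IsLocalization.lift_eq _ q

include huniv in
/-- The lifting step. -/
theorem lift_core {A' K' : Type u} [CommRing A'] [Algebra k A'] [Field K'] [Algebra k K'] (π : A' →ₐ[k] K')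
    (hsurj : Function.Surjective π) (hunit : ∀ a, π a ≠ 0 → IsUnit a) (u : sp k K' ⟶ T)
    (y : Fin D.n → K') (hy : IsUnit (MvPolynomial.aeval y D.f))
    (fz : H →ₐ[k] K') (hfz : mapPt T fz p = u * mapPt T ((D.evalAt y hy).comp D.β) p) (hg : fz D.g ≠ 0) :
    ∃ s : sp k A' ⟶ T, mapPt T π s = u := by
  let z : Localization.Away D.g →ₐ[k] K' := IsLocalization.liftAlgHom (M := Submonoid.powers D.g) (f := fz) (by
    rintro ⟨_, m, rfl⟩
    rw [map_pow]
    exact (IsUnit.mk0 _ hg).pow m)
  have hz : z.comp (IsScalarTower.toAlgHom k H (Localization.Away D.g)) = fz := AlgHom.ext fun a =>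
    IsLocalization.lift_eq (M := Submonoid.powers D.g) _ a
  have key : ∀ φ : Localization.Away D.f →ₐ[k] K', ∃ ψ : Localization.Away D.f →ₐ[k] A', π.comp ψ = φ := by
    intro φ
    choose y' hy' using fun i => hsurj (φ (algebraMap _ _ (MvPolynomial.X i : MvPolynomial (Fin D.n) k)))
    have he : π.comp (MvPolynomial.aeval y') = φ.comp (IsScalarTower.toAlgHom k _ (Localization.Away D.f)) :=
      MvPolynomial.algHom_ext fun i => by
        rw [AlgHom.comp_apply, MvPolynomial.aeval_X, hy']
        rfl
    have hu : IsUnit (MvPolynomial.aeval y' D.f) := by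
      refine hunit _ ?_
      rw [show π (MvPolynomial.aeval y' D.f) = φ (algebraMap _ _ D.f) from DFunLike.congr_fun he D.f]
      exact ((IsLocalization.Away.algebraMap_isUnit D.f).map φ).ne_zero
    refine ⟨D.evalAt y' hu, IsLocalization.algHom_ext (Submonoid.powers D.f) (AlgHom.ext fun q => ?_)⟩
    show π (D.evalAt y' hu (algebraMap _ _ q)) = φ (algebraMap _ _ q)
    rw [RetractData.evalAt_X]
    exact DFunLike.congr_fun he q
  obtain ⟨ψ₁, h₁⟩ := key (D.evalAt y hy)
  obtain ⟨ψ₂, h₂⟩ := key (z.comp D.α)
  refine ⟨mapPt T (ψ₂.comp D.β) p * (mapPt T (ψ₁.comp D.β) p)⁻¹, ?_⟩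
  rw [map_mul, map_inv, mapPt_mapPt, mapPt_mapPt, ← AlgHom.comp_assoc, ← AlgHom.comp_assoc, h₁, h₂,
    AlgHom.comp_assoc, D.hαβ, hz, hfz, mul_inv_cancel_right]

include huniv in
/-- A nonzero polynomial detecting good points in all field extensions. -/
theorem exists_good_poly (K' : Type u) [Field K'] [Algebra k K'] [IsDomain H] (u : sp k K' ⟶ T) :
    ∃ P : MvPolynomial (Fin D.n) K', P ≠ 0 ∧ ∀ (F : Type u) [Field F] [Algebra k F] [Algebra K' F]
      [IsScalarTower k K' F] (y : Fin D.n → F), MvPolynomial.aeval y P ≠ 0 →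
      ∃ (hy : IsUnit (MvPolynomial.aeval y D.f)) (fz : H →ₐ[k] F),
        mapPt T fz p = mapPt T (IsScalarTower.toAlgHom k K' F) u * mapPt T ((D.evalAt y hy).comp D.β) p ∧
          fz D.g ≠ 0 := by
  classical
  let Q := MvPolynomial (Fin D.n) K'
  let jP : MvPolynomial (Fin D.n) k →ₐ[k] Q := MvPolynomial.mapAlgHom (Algebra.ofId k K')
  let f' : Q := jP D.f
  have hjP : Function.Injective jP := MvPolynomial.map_injective _ (algebraMap k K').injective
  have hf' : f' ≠ 0 := fun h => D.hf (hjP (h.trans (map_zero jP).symm))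
  let S := Localization.Away f'
  haveI : IsDomain S := IsLocalization.isDomain_localization (powers_le_nonZeroDivisors_of_noZeroDivisors hf')
  let jS : Localization.Away D.f →ₐ[k] S :=
    IsLocalization.liftAlgHom (M := Submonoid.powers D.f) (f := (IsScalarTower.toAlgHom k Q S).comp jP) (by
      rintro ⟨_, m, rfl⟩
      rw [map_pow]
      exact (IsLocalization.Away.algebraMap_isUnit (S := S) f').pow m)
  have hjS : ∀ q, jS (algebraMap _ _ q) = algebraMap Q S (jP q) := fun q =>
    IsLocalization.lift_eq (M := Submonoid.powers D.f) _ q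
  let E := K' ⊗[k] H
  let iH : H →ₐ[k] E := Algebra.TensorProduct.includeRight
  let iK : K' →ₐ[k] E := Algebra.TensorProduct.includeLeft
  let θ : E →ₐ[K'] S := Algebra.TensorProduct.lift (Algebra.ofId K' S) (jS.comp D.β) fun _ _ => Commute.all _ _
  have hθH : (θ.restrictScalars k).comp iH = jS.comp D.β := AlgHom.ext fun a => by
    show θ ((1 : K') ⊗ₜ[k] a) = _
    rw [Algebra.TensorProduct.lift_tmul, map_one, _root_.one_mul]
  have hθK : (θ.restrictScalars k).comp iK = (Algebra.ofId K' S).restrictScalars k := AlgHom.ext fun a => by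
    show θ (a ⊗ₜ[k] (1 : H)) = _
    rw [Algebra.TensorProduct.lift_tmul, map_one, _root_.mul_one]
    rfl
  have hθ : Function.Injective θ := by
    let E' := K' ⊗[k] Localization.Away D.g
    let iG : Localization.Away D.g →ₐ[k] E' := Algebra.TensorProduct.includeRight
    let back₀ : Q →ₐ[K'] E' :=
      MvPolynomial.aeval fun i => iG (D.α (algebraMap _ _ (MvPolynomial.X i : MvPolynomial (Fin D.n) k)))
    have hb : (back₀.restrictScalars k).comp jP = (iG.comp D.α).comp (IsScalarTower.toAlgHom k _ (Localization.Away D.f)) :=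
      MvPolynomial.algHom_ext fun i => by
        show back₀ (MvPolynomial.map (algebraMap k K') (MvPolynomial.X i)) = _
        rw [MvPolynomial.map_X, MvPolynomial.aeval_X]
        rfl
    let back : S →ₐ[K'] E' := IsLocalization.liftAlgHom (M := Submonoid.powers f') (f := back₀) (by
      rintro ⟨_, m, rfl⟩
      rw [map_pow]
      refine IsUnit.pow m ?_
      rw [show back₀ f' = iG (D.α (algebraMap _ _ D.f)) from DFunLike.congr_fun hb D.f]
      exact ((IsLocalization.Away.algebraMap_isUnit D.f).map D.α).map iG)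
    have hback : ∀ q, back (algebraMap Q S q) = back₀ q := fun q =>
      IsLocalization.lift_eq (M := Submonoid.powers f') _ q
    have hbs : (back.restrictScalars k).comp jS = iG.comp D.α := by
      refine IsLocalization.algHom_ext (Submonoid.powers D.f) (AlgHom.ext fun q => ?_)
      show back (jS (algebraMap _ _ q)) = iG (D.α (algebraMap _ _ q))
      rw [hjS, hback]
      exact DFunLike.congr_fun hb q
    have hloc : (back.comp θ).toLinearMap =
        ((IsScalarTower.toAlgHom k H (Localization.Away D.g)).toLinearMap.baseChange K') := by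
      refine TensorProduct.AlgebraTensorModule.ext fun c a => ?_
      show back (θ (c ⊗ₜ[k] a)) = c ⊗ₜ[k] algebraMap H (Localization.Away D.g) a
      rw [Algebra.TensorProduct.lift_tmul, map_mul, Algebra.ofId_apply, back.commutes,
        show back ((jS.comp D.β) a) = iG (D.α (D.β a)) from DFunLike.congr_fun hbs (D.β a),
        show D.α (D.β a) = algebraMap H _ a from DFunLike.congr_fun D.hαβ a,
        Algebra.TensorProduct.algebraMap_apply, Algebra.algebraMap_self, RingHom.id_apply]
      show (c ⊗ₜ[k] (1 : Localization.Away D.g)) * ((1 : K') ⊗ₜ[k] _) = _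
      rw [Algebra.TensorProduct.tmul_mul_tmul, _root_.one_mul, _root_.mul_one]
    have hinj : Function.Injective ((IsScalarTower.toAlgHom k H (Localization.Away D.g)).toLinearMap.baseChange K') :=
      Module.Flat.lTensor_preserves_injective_linearMap _
        (IsLocalization.injective (Localization.Away D.g) (powers_le_nonZeroDivisors_of_noZeroDivisors D.hg))
    rw [← hloc] at hinj
    exact Function.Injective.of_comp (f := back) (g := θ) hinj
  -- translations
  have hτ : ∀ w : sp k K' ⟶ T, ∃ τ : E →ₐ[K'] E,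
      mapPt T ((τ.restrictScalars k).comp iH) p = mapPt T iK w * mapPt T iH p := fun w => by
    obtain ⟨φ, hφ, -⟩ := huniv (mapPt T iK w * mapPt T iH p)
    refine ⟨Algebra.TensorProduct.lift (Algebra.ofId K' E) φ fun _ _ => Commute.all _ _, ?_⟩
    rw [← hφ]
    congr 2
    refine AlgHom.ext fun a => ?_
    show Algebra.TensorProduct.lift (Algebra.ofId K' E) φ (fun _ _ => Commute.all _ _) ((1 : K') ⊗ₜ[k] a) = φ a
    rw [Algebra.TensorProduct.lift_tmul, map_one, _root_.one_mul]
  obtain ⟨τ, hτu⟩ := hτ u
  obtain ⟨τ', hτ'u⟩ := hτ u⁻¹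
  have hfixK : ∀ σ : E →ₐ[K'] E, (σ.restrictScalars k).comp iK = iK := fun σ => AlgHom.ext fun c => by
    show σ (algebraMap K' E c) = algebraMap K' E c
    exact σ.commutes c
  have hττ : τ'.comp τ = AlgHom.id K' E := by
    refine Algebra.TensorProduct.ext (Subsingleton.elim _ _) ?_
    have h2 : mapPt T ((τ'.restrictScalars k).comp ((τ.restrictScalars k).comp iH)) p = mapPt T iH p := by
      rw [← mapPt_mapPt, hτu, map_mul, mapPt_mapPt, mapPt_mapPt, hfixK, hτ'u, map_inv, mul_inv_cancel_left]
    obtain ⟨φ, -, huq⟩ := huniv (mapPt T iH p)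
    refine (huq _ ?_).trans (huq _ rfl).symm
    exact h2
  have hτg : θ (τ (iH D.g)) ≠ 0 := fun h => by
    have h1 : τ (iH D.g) = 0 := hθ (h.trans (map_zero θ).symm)
    have h2 : iH D.g = 0 := by
      have := DFunLike.congr_fun hττ (iH D.g)
      rw [AlgHom.comp_apply, h1, map_zero] at this
      exact this.symm
    exact D.hg (Algebra.TensorProduct.includeRight_injective (algebraMap k K').injective (h2.trans (map_zero iH).symm))
  obtain ⟨⟨Q₀, s⟩, hQ⟩ := IsLocalization.surj (Submonoid.powers f') (θ (τ (iH D.g)))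
  have hsunit : IsUnit (algebraMap Q S s) := IsLocalization.map_units S s
  have hQ0 : Q₀ ≠ 0 := fun h => by
    rw [h, map_zero] at hQ
    exact hτg ((mul_eq_zero.1 hQ).resolve_right hsunit.ne_zero)
  refine ⟨f' * Q₀, mul_ne_zero hf' hQ0, fun F _ _ _ _ y hy => ?_⟩
  rw [map_mul, mul_ne_zero_iff] at hy
  have haev : ∀ q, MvPolynomial.aeval y q = MvPolynomial.aeval y (jP q) := fun q =>
    (MvPolynomial.aeval_map_algebraMap K' y q).symm
  have hyf : IsUnit (MvPolynomial.aeval y D.f) := IsUnit.mk0 _ (by rw [haev]; exact hy.1)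
  let evS : S →ₐ[K'] F := IsLocalization.liftAlgHom (M := Submonoid.powers f') (f := MvPolynomial.aeval y) (by
    rintro ⟨_, m, rfl⟩
    rw [map_pow]
    exact (IsUnit.mk0 _ hy.1).pow m)
  have hevS : ∀ q, evS (algebraMap Q S q) = MvPolynomial.aeval y q := fun q =>
    IsLocalization.lift_eq (M := Submonoid.powers f') _ q
  have hev : (evS.restrictScalars k).comp jS = D.evalAt y hyf := by
    refine IsLocalization.algHom_ext (Submonoid.powers D.f) (AlgHom.ext fun q => ?_)
    show evS (jS (algebraMap _ _ q)) = D.evalAt y hyf (algebraMap _ _ q)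
    rw [hjS, hevS, RetractData.evalAt_X, haev]
  refine ⟨hyf, ((evS.comp (θ.comp τ)).restrictScalars k).comp iH, ?_, fun h => ?_⟩
  · rw [← hev, AlgHom.comp_assoc, ← hθH, show ((evS.comp (θ.comp τ)).restrictScalars k).comp iH =
      (evS.restrictScalars k).comp ((θ.restrictScalars k).comp ((τ.restrictScalars k).comp iH)) from rfl]
    rw [← mapPt_mapPt, ← mapPt_mapPt, hτu, map_mul, map_mul]
    congr 1
    · rw [mapPt_mapPt, mapPt_mapPt, AlgHom.comp_assoc, hθK]
      have e : (evS.restrictScalars k).comp ((Algebra.ofId K' S).restrictScalars k) = IsScalarTower.toAlgHom k K' F :=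
        AlgHom.ext fun c => evS.commutes c
      rw [e]
    · rw [mapPt_mapPt, mapPt_mapPt, AlgHom.comp_assoc]
  · have h1 : evS (θ (τ (iH D.g))) = 0 := h
    have h2 := congrArg evS hQ
    rw [map_mul, h1, zero_mul, hevS] at h2
    exact hy.2 h2.symm

include huniv in
/-- Lifting when there is a point off the bad hypersurface. -/
theorem lift_of_points {K : Type u} [Field K] [Algebra k K] (u : sp k K ⟶ T) (P : MvPolynomial (Fin D.n) K)
    (hP : ∀ (F : Type u) [Field F] [Algebra k F] [Algebra K F] [IsScalarTower k K F] (y : Fin D.n → F),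
      MvPolynomial.aeval y P ≠ 0 → ∃ (hy : IsUnit (MvPolynomial.aeval y D.f)) (fz : H →ₐ[k] F),
        mapPt T fz p = mapPt T (IsScalarTower.toAlgHom k K F) u * mapPt T ((D.evalAt y hy).comp D.β) p ∧
          fz D.g ≠ 0)
    {A' F : Type u} [CommRing A'] [Algebra k A'] [Field F] [Algebra k F] [Algebra K F] [IsScalarTower k K F]
    (π : A' →ₐ[k] F) (hsurj : Function.Surjective π) (hunit : ∀ a, π a ≠ 0 → IsUnit a)
    (hex : ∃ y : Fin D.n → F, MvPolynomial.aeval y P ≠ 0) :
    ∃ s : sp k A' ⟶ T, mapPt T π s = mapPt T (IsScalarTower.toAlgHom k K F) u := by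
  obtain ⟨y, hy⟩ := hex
  obtain ⟨hy', fz, h1, h2⟩ := hP F y hy
  exact lift_core T p huniv D π hsurj hunit _ y hy' fz h1 h2

end Groth.Agent.GITLib.TorusApprox

end
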